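import Cfsg.Agent.Lib.ONOut.Scan

/-!
# Long words given by segments
-/

set_option autoImplicit false
set_option linter.all false

noncomputable section

namespace Cfsg.Agent.ONOut

open Cfsg.Spor Cfsg.Agent.InvCoset Cfsg.Agent.ONGroup

def segRun : List (List ℕ) → ℕ → ℕ
  | [], c => c
  | s :: l, c => segRun l (ONTable.table.runW s c)

def segsIn : List (List ℕ) → Bool
  | [] => true
  | s :: l => inRange 8 s && segsIn l

theorem segRun_spec : ∀ {l : List (List ℕ)}, segsIn l = true → ∀ c : Row,
    ((act122760 (prodE let8 l.flatten)⁻¹ c : Row) : ℕ) = segRun l c := by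
  intro l
  induction l with
  | nil => intro _ c; simp [prodE, segRun]
  | cons s l ih =>
    intro h c
    simp only [segsIn, Bool.and_eq_true] at h
    rw [List.flatten_cons, prodE_append, _root_.mul_inv_rev, map_mul, Equiv.Perm.mul_apply, ih h.2, segRun,
      word_row h.1]

def threeFixed (l : List (List ℕ)) : Bool :=
  Nat.beq (segRun l 0) 0 && Nat.beq (segRun l 3) 3 && Nat.beq (segRun l 113129) 113129

/-- The product of the segments is trivial. -/
def segTriv (l : List (List ℕ)) : Bool := segsIn l && threeFixed l

theorem segTriv_spec {l : List (List ℕ)} (h : segTriv l = true) : prodE let8 l.flatten = 1 := by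
  simp only [segTriv, threeFixed, Bool.and_eq_true] at h
  obtain ⟨hin, ⟨h0, h1⟩, h2⟩ := h
  have key : ∀ c : Row, segRun l c = c → act122760 (prodE let8 l.flatten)⁻¹ c = c := fun c hc =>
    Fin.ext ((segRun_spec hin c).trans hc)
  exact inv_eq_one.mp (one_of_three (key row0 (Nat.eq_of_beq_eq_true h0)) (key row1 (Nat.eq_of_beq_eq_true h1))
    (key row2 (Nat.eq_of_beq_eq_true h2)))

/-- The product of the segments is not trivial. -/
def segMoves (l : List (List ℕ)) : Bool := segsIn l && !threeFixed l

theorem segMoves_spec {l : List (List ℕ)} (h : segMoves l = true) : prodE let8 l.flatten ≠ 1 := by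
  simp only [segMoves, threeFixed, Bool.and_eq_true, Bool.not_eq_true'] at h
  intro he
  have key : ∀ c : Row, segRun l c = c := fun c => by
    rw [← segRun_spec h.1 c, he, inv_one, map_one]; rfl
  have h' := h.2
  rw [show (0 : ℕ) = ((row0 : Row) : ℕ) from rfl, key row0, show (3 : ℕ) = ((row1 : Row) : ℕ) from rfl, key row1,
    show (113129 : ℕ) = ((row2 : Row) : ℕ) from rfl, key row2] at h'
  simp at h'

theorem prodE_segs (l : List (List ℕ)) : prodE let8 l.flatten = (l.map (prodE let8)).prod := by
  induction l with
  | nil => rfl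
  | cons s l ih => rw [List.flatten_cons, prodE_append, ih, List.map_cons, List.prod_cons]

/-- A power. -/
theorem prodE_power (w : List ℕ) (k : ℕ) : prodE let8 (List.replicate k w).flatten = prodE let8 w ^ k := by
  rw [prodE_segs, List.map_replicate, List.prod_replicate]

theorem inRange_of : ∀ {w : List ℕ}, (∀ y ∈ w, y < 8) → inRange 8 w = true
  | [], _ => rfl
  | y :: w, h => by
    simp only [inRange, Bool.and_eq_true]
    exact ⟨by simpa [Nat.blt] using h y List.mem_cons_self, inRange_of fun z hz => h z (List.mem_cons_of_mem _ hz)⟩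

theorem prodE_inv {w : List ℕ} (hw : inRange 8 w = true) :
    prodE let8 (invW ONTable.iv w) = (prodE let8 w)⁻¹ :=
  prodE_invW let8_paired w (inRange_spec hw)

/-- Two products of segments agree. -/
theorem segs_eq {l : List (List ℕ)} {v : List ℕ} (hv : inRange 8 v = true)
    (h : segTriv (l ++ [invW ONTable.iv v]) = true) : prodE let8 l.flatten = prodE let8 v := by
  have h' := segTriv_spec h
  rwa [List.flatten_append, prodE_append, List.flatten_cons, List.flatten_nil, List.append_nil, prodE_inv hv,
    mul_inv_eq_one] at h'

end Cfsg.Agent.ONOut
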