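import Cfsg.Agent.Lib.ONOut.Words

/-!
# A part of the scan
-/

set_option autoImplicit false
set_option Elab.async false
set_option maxHeartbeats 0
set_option maxRecDepth 100000

noncomputable section

namespace Cfsg.Agent.ONOut

open Cfsg.Spor Cfsg.Agent.InvCoset Cfsg.Agent.ONGroup

theorem scanX40960 : scanRows xW labsX allX 40960 256 = true := by decide +kernel

theorem scanX41216 : scanRows xW labsX allX 41216 256 = true := by decide +kernel

theorem scanX41472 : scanRows xW labsX allX 41472 256 = true := by decide +kernel

theorem scanX41728 : scanRows xW labsX allX 41728 256 = true := by decide +kernel

theorem scanX41984 : scanRows xW labsX allX 41984 256 = true := by decide +kernel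

theorem scanX42240 : scanRows xW labsX allX 42240 256 = true := by decide +kernel

theorem scanX42496 : scanRows xW labsX allX 42496 256 = true := by decide +kernel

theorem scanX42752 : scanRows xW labsX allX 42752 256 = true := by decide +kernel

theorem scanX43008 : scanRows xW labsX allX 43008 256 = true := by decide +kernel

theorem scanX43264 : scanRows xW labsX allX 43264 256 = true := by decide +kernel

theorem scanX43520 : scanRows xW labsX allX 43520 256 = true := by decide +kernel

theorem scanX43776 : scanRows xW labsX allX 43776 256 = true := by decide +kernel

theorem scanX44032 : scanRows xW labsX allX 44032 256 = true := by decide +kernel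

theorem scanX44288 : scanRows xW labsX allX 44288 256 = true := by decide +kernel

theorem scanX44544 : scanRows xW labsX allX 44544 256 = true := by decide +kernel

theorem scanX44800 : scanRows xW labsX allX 44800 256 = true := by decide +kernel

theorem scanX45056 : scanRows xW labsX allX 45056 256 = true := by decide +kernel

theorem scanX45312 : scanRows xW labsX allX 45312 256 = true := by decide +kernel

theorem scanX45568 : scanRows xW labsX allX 45568 256 = true := by decide +kernel

theorem scanX45824 : scanRows xW labsX allX 45824 256 = true := by decide +kernel

theorem scanX46080 : scanRows xW labsX allX 46080 256 = true := by decide +kernel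

theorem scanX46336 : scanRows xW labsX allX 46336 256 = true := by decide +kernel

theorem scanX46592 : scanRows xW labsX allX 46592 256 = true := by decide +kernel

theorem scanX46848 : scanRows xW labsX allX 46848 256 = true := by decide +kernel

theorem scanX47104 : scanRows xW labsX allX 47104 256 = true := by decide +kernel

theorem scanX47360 : scanRows xW labsX allX 47360 256 = true := by decide +kernel

theorem scanX47616 : scanRows xW labsX allX 47616 256 = true := by decide +kernel

theorem scanX47872 : scanRows xW labsX allX 47872 256 = true := by decide +kernel

theorem scanX48128 : scanRows xW labsX allX 48128 256 = true := by decide +kernel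

theorem scanX48384 : scanRows xW labsX allX 48384 256 = true := by decide +kernel

theorem scanX48640 : scanRows xW labsX allX 48640 256 = true := by decide +kernel

theorem scanX48896 : scanRows xW labsX allX 48896 256 = true := by decide +kernel

theorem scanX49152 : scanRows xW labsX allX 49152 256 = true := by decide +kernel

theorem scanX49408 : scanRows xW labsX allX 49408 256 = true := by decide +kernel

theorem scanX49664 : scanRows xW labsX allX 49664 256 = true := by decide +kernel

theorem scanX49920 : scanRows xW labsX allX 49920 256 = true := by decide +kernel

theorem scanX50176 : scanRows xW labsX allX 50176 256 = true := by decide +kernel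

theorem scanX50432 : scanRows xW labsX allX 50432 256 = true := by decide +kernel

theorem scanX50688 : scanRows xW labsX allX 50688 256 = true := by decide +kernel

theorem scanX50944 : scanRows xW labsX allX 50944 256 = true := by decide +kernel

theorem scanX51200 : scanRows xW labsX allX 51200 256 = true := by decide +kernel

theorem scanX51456 : scanRows xW labsX allX 51456 256 = true := by decide +kernel

theorem scanX51712 : scanRows xW labsX allX 51712 256 = true := by decide +kernel

theorem scanX51968 : scanRows xW labsX allX 51968 256 = true := by decide +kernel

theorem scanX52224 : scanRows xW labsX allX 52224 256 = true := by decide +kernel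

theorem scanX52480 : scanRows xW labsX allX 52480 256 = true := by decide +kernel

theorem scanX52736 : scanRows xW labsX allX 52736 256 = true := by decide +kernel

theorem scanX52992 : scanRows xW labsX allX 52992 256 = true := by decide +kernel

theorem scanX53248 : scanRows xW labsX allX 53248 256 = true := by decide +kernel

theorem scanX53504 : scanRows xW labsX allX 53504 256 = true := by decide +kernel

theorem scanX53760 : scanRows xW labsX allX 53760 256 = true := by decide +kernel

theorem scanX54016 : scanRows xW labsX allX 54016 256 = true := by decide +kernel

theorem scanX54272 : scanRows xW labsX allX 54272 256 = true := by decide +kernel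

theorem scanX54528 : scanRows xW labsX allX 54528 256 = true := by decide +kernel

theorem scanX54784 : scanRows xW labsX allX 54784 256 = true := by decide +kernel

theorem scanX55040 : scanRows xW labsX allX 55040 256 = true := by decide +kernel

theorem scanX55296 : scanRows xW labsX allX 55296 256 = true := by decide +kernel

theorem scanX55552 : scanRows xW labsX allX 55552 256 = true := by decide +kernel

theorem scanX55808 : scanRows xW labsX allX 55808 256 = true := by decide +kernel

theorem scanX56064 : scanRows xW labsX allX 56064 256 = true := by decide +kernel

theorem scanX56320 : scanRows xW labsX allX 56320 256 = true := by decide +kernel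

theorem scanX56576 : scanRows xW labsX allX 56576 256 = true := by decide +kernel

theorem scanX56832 : scanRows xW labsX allX 56832 256 = true := by decide +kernel

theorem scanX57088 : scanRows xW labsX allX 57088 256 = true := by decide +kernel

theorem scanX57344 : scanRows xW labsX allX 57344 256 = true := by decide +kernel

theorem scanX57600 : scanRows xW labsX allX 57600 256 = true := by decide +kernel

theorem scanX57856 : scanRows xW labsX allX 57856 256 = true := by decide +kernel

theorem scanX58112 : scanRows xW labsX allX 58112 256 = true := by decide +kernel

theorem scanX58368 : scanRows xW labsX allX 58368 256 = true := by decide +kernel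

theorem scanX58624 : scanRows xW labsX allX 58624 256 = true := by decide +kernel

theorem scanX58880 : scanRows xW labsX allX 58880 256 = true := by decide +kernel

theorem scanX59136 : scanRows xW labsX allX 59136 256 = true := by decide +kernel

theorem scanX59392 : scanRows xW labsX allX 59392 256 = true := by decide +kernel

theorem scanX59648 : scanRows xW labsX allX 59648 256 = true := by decide +kernel

theorem scanX59904 : scanRows xW labsX allX 59904 256 = true := by decide +kernel

theorem scanX60160 : scanRows xW labsX allX 60160 256 = true := by decide +kernel

theorem scanX60416 : scanRows xW labsX allX 60416 256 = true := by decide +kernel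

theorem scanX60672 : scanRows xW labsX allX 60672 256 = true := by decide +kernel

theorem scanX60928 : scanRows xW labsX allX 60928 256 = true := by decide +kernel

theorem scanX61184 : scanRows xW labsX allX 61184 256 = true := by decide +kernel

theorem scanX61440 : scanRows xW labsX allX 61440 256 = true := by decide +kernel

theorem scanX61696 : scanRows xW labsX allX 61696 256 = true := by decide +kernel

theorem scanX61952 : scanRows xW labsX allX 61952 256 = true := by decide +kernel

theorem scanX62208 : scanRows xW labsX allX 62208 256 = true := by decide +kernel

theorem scanX62464 : scanRows xW labsX allX 62464 256 = true := by decide +kernel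

theorem scanX62720 : scanRows xW labsX allX 62720 256 = true := by decide +kernel

theorem scanX62976 : scanRows xW labsX allX 62976 256 = true := by decide +kernel

theorem scanX63232 : scanRows xW labsX allX 63232 256 = true := by decide +kernel

theorem scanX63488 : scanRows xW labsX allX 63488 256 = true := by decide +kernel

theorem scanX63744 : scanRows xW labsX allX 63744 256 = true := by decide +kernel

theorem scanX64000 : scanRows xW labsX allX 64000 256 = true := by decide +kernel

theorem scanX64256 : scanRows xW labsX allX 64256 256 = true := by decide +kernel

theorem scanX64512 : scanRows xW labsX allX 64512 256 = true := by decide +kernel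

theorem scanX64768 : scanRows xW labsX allX 64768 256 = true := by decide +kernel

theorem scanX65024 : scanRows xW labsX allX 65024 256 = true := by decide +kernel

theorem scanX65280 : scanRows xW labsX allX 65280 256 = true := by decide +kernel

theorem scanX65536 : scanRows xW labsX allX 65536 256 = true := by decide +kernel

theorem scanX65792 : scanRows xW labsX allX 65792 256 = true := by decide +kernel

theorem scanX66048 : scanRows xW labsX allX 66048 256 = true := by decide +kernel

theorem scanX66304 : scanRows xW labsX allX 66304 256 = true := by decide +kernel

theorem scanX66560 : scanRows xW labsX allX 66560 256 = true := by decide +kernel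

theorem scanX66816 : scanRows xW labsX allX 66816 256 = true := by decide +kernel

theorem scanX67072 : scanRows xW labsX allX 67072 256 = true := by decide +kernel

theorem scanX67328 : scanRows xW labsX allX 67328 256 = true := by decide +kernel

theorem scanX67584 : scanRows xW labsX allX 67584 256 = true := by decide +kernel

theorem scanX67840 : scanRows xW labsX allX 67840 256 = true := by decide +kernel

theorem scanX68096 : scanRows xW labsX allX 68096 256 = true := by decide +kernel

theorem scanX68352 : scanRows xW labsX allX 68352 256 = true := by decide +kernel

theorem scanX68608 : scanRows xW labsX allX 68608 256 = true := by decide +kernel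

theorem scanX68864 : scanRows xW labsX allX 68864 256 = true := by decide +kernel

theorem scanX69120 : scanRows xW labsX allX 69120 256 = true := by decide +kernel

theorem scanX69376 : scanRows xW labsX allX 69376 256 = true := by decide +kernel

theorem scanX69632 : scanRows xW labsX allX 69632 256 = true := by decide +kernel

theorem scanX69888 : scanRows xW labsX allX 69888 256 = true := by decide +kernel

theorem scanX70144 : scanRows xW labsX allX 70144 256 = true := by decide +kernel

theorem scanX70400 : scanRows xW labsX allX 70400 256 = true := by decide +kernel

theorem scanX70656 : scanRows xW labsX allX 70656 256 = true := by decide +kernel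

theorem scanX70912 : scanRows xW labsX allX 70912 256 = true := by decide +kernel

theorem scanX71168 : scanRows xW labsX allX 71168 256 = true := by decide +kernel

theorem scanX71424 : scanRows xW labsX allX 71424 256 = true := by decide +kernel

theorem scanX71680 : scanRows xW labsX allX 71680 256 = true := by decide +kernel

theorem scanX71936 : scanRows xW labsX allX 71936 256 = true := by decide +kernel

theorem scanX72192 : scanRows xW labsX allX 72192 256 = true := by decide +kernel

theorem scanX72448 : scanRows xW labsX allX 72448 256 = true := by decide +kernel

theorem scanX72704 : scanRows xW labsX allX 72704 256 = true := by decide +kernel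

theorem scanX72960 : scanRows xW labsX allX 72960 256 = true := by decide +kernel

theorem scanX73216 : scanRows xW labsX allX 73216 256 = true := by decide +kernel

theorem scanX73472 : scanRows xW labsX allX 73472 256 = true := by decide +kernel

theorem scanX73728 : scanRows xW labsX allX 73728 256 = true := by decide +kernel

theorem scanX73984 : scanRows xW labsX allX 73984 256 = true := by decide +kernel

theorem scanX74240 : scanRows xW labsX allX 74240 256 = true := by decide +kernel

theorem scanX74496 : scanRows xW labsX allX 74496 256 = true := by decide +kernel

theorem scanX74752 : scanRows xW labsX allX 74752 256 = true := by decide +kernel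

theorem scanX75008 : scanRows xW labsX allX 75008 256 = true := by decide +kernel

theorem scanX75264 : scanRows xW labsX allX 75264 256 = true := by decide +kernel

theorem scanX75520 : scanRows xW labsX allX 75520 256 = true := by decide +kernel

theorem scanX75776 : scanRows xW labsX allX 75776 256 = true := by decide +kernel

theorem scanX76032 : scanRows xW labsX allX 76032 256 = true := by decide +kernel

theorem scanX76288 : scanRows xW labsX allX 76288 256 = true := by decide +kernel

theorem scanX76544 : scanRows xW labsX allX 76544 256 = true := by decide +kernel

theorem scanX76800 : scanRows xW labsX allX 76800 256 = true := by decide +kernel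

theorem scanX77056 : scanRows xW labsX allX 77056 256 = true := by decide +kernel

theorem scanX77312 : scanRows xW labsX allX 77312 256 = true := by decide +kernel

theorem scanX77568 : scanRows xW labsX allX 77568 256 = true := by decide +kernel

theorem scanX77824 : scanRows xW labsX allX 77824 256 = true := by decide +kernel

theorem scanX78080 : scanRows xW labsX allX 78080 256 = true := by decide +kernel

theorem scanX78336 : scanRows xW labsX allX 78336 256 = true := by decide +kernel

theorem scanX78592 : scanRows xW labsX allX 78592 256 = true := by decide +kernel

theorem scanX78848 : scanRows xW labsX allX 78848 256 = true := by decide +kernel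

theorem scanX79104 : scanRows xW labsX allX 79104 256 = true := by decide +kernel

theorem scanX79360 : scanRows xW labsX allX 79360 256 = true := by decide +kernel

theorem scanX79616 : scanRows xW labsX allX 79616 256 = true := by decide +kernel

theorem scanX79872 : scanRows xW labsX allX 79872 256 = true := by decide +kernel

theorem scanX80128 : scanRows xW labsX allX 80128 256 = true := by decide +kernel

theorem scanX80384 : scanRows xW labsX allX 80384 256 = true := by decide +kernel

theorem scanX80640 : scanRows xW labsX allX 80640 256 = true := by decide +kernel

theorem scanX80896 : scanRows xW labsX allX 80896 256 = true := by decide +kernel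

theorem scanX81152 : scanRows xW labsX allX 81152 256 = true := by decide +kernel

theorem scanX81408 : scanRows xW labsX allX 81408 256 = true := by decide +kernel

theorem scanX81664 : scanRows xW labsX allX 81664 256 = true := by decide +kernel

theorem scanXUpTo1 (h : ∀ i < 40960, (fails xW i labsX i || memNat i allX) = true) :
    ∀ i < 81920, (fails xW i labsX i || memNat i allX) = true :=
  scan_add 81664 256 (scan_add 81408 256 (scan_add 81152 256 (scan_add 80896 256 (scan_add 80640 256 (scan_add 80384 256 (scan_add 80128 256 (scan_add 79872 256 (scan_add 79616 256 (scan_add 79360 256 (scan_add 79104 256 (scan_add 78848 256 (scan_add 78592 256 (scan_add 78336 256 (scan_add 78080 256 (scan_add 77824 256 (scan_add 77568 256 (scan_add 77312 256 (scan_add 77056 256 (scan_add 76800 256 (scan_add 76544 256 (scan_add 76288 256 (scan_add 76032 256 (scan_add 75776 256 (scan_add 75520 256 (scan_add 75264 256 (scan_add 75008 256 (scan_add 74752 256 (scan_add 74496 256 (scan_add 74240 256 (scan_add 73984 256 (scan_add 73728 256 (scan_add 73472 256 (scan_add 73216 256 (scan_add 72960 256 (scan_add 72704 256 (scan_add 72448 256 (scan_add 72192 256 (scan_add 71936 256 (scan_add 71680 256 (scan_add 71424 256 (scan_add 71168 256 (scan_add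 70912 256 (scan_add 70656 256 (scan_add 70400 256 (scan_add 70144 256 (scan_add 69888 256 (scan_add 69632 256 (scan_add 69376 256 (scan_add 69120 256 (scan_add 68864 256 (scan_add 68608 256 (scan_add 68352 256 (scan_add 68096 256 (scan_add 67840 256 (scan_add 67584 256 (scan_add 67328 256 (scan_add 67072 256 (scan_add 66816 256 (scan_add 66560 256 (scan_add 66304 256 (scan_add 66048 256 (scan_add 65792 256 (scan_add 65536 256 (scan_add 65280 256 (scan_add 65024 256 (scan_add 64768 256 (scan_add 64512 256 (scan_add 64256 256 (scan_add 64000 256 (scan_add 63744 256 (scan_add 63488 256 (scan_add 63232 256 (scan_add 62976 256 (scan_add 62720 256 (scan_add 62464 256 (scan_add 62208 256 (scan_add 61952 256 (scan_add 61696 256 (scan_add 61440 256 (scan_add 61184 256 (scan_add 60928 256 (scan_add 60672 256 (scan_add 60416 256 (scan_add 60160 256 (scan_add 59904 256 (scan_add 59648 256 (scan_add 59392 256 (scan_add 59136 256 (scan_add 58880 256 (scan_add 58624 256 (scan_add 58368 256 (scan_add 58112 256 (scan_add 57856 256 (scan_add 57600 256 (scan_add 57344 256 (scan_add 57088 256 (scan_add 56832 256 (scan_add 56576 256 (scan_add 56320 256 (scan_add 56064 256 (scan_add 55808 256 (scan_add 55552 256 (scan_add 55296 256 (scan_add 55040 256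 (scan_add 54784 256 (scan_add 54528 256 (scan_add 54272 256 (scan_add 54016 256 (scan_add 53760 256 (scan_add 53504 256 (scan_add 53248 256 (scan_add 52992 256 (scan_add 52736 256 (scan_add 52480 256 (scan_add 52224 256 (scan_add 51968 256 (scan_add 51712 256 (scan_add 51456 256 (scan_add 51200 256 (scan_add 50944 256 (scan_add 50688 256 (scan_add 50432 256 (scan_add 50176 256 (scan_add 49920 256 (scan_add 49664 256 (scan_add 49408 256 (scan_add 49152 256 (scan_add 48896 256 (scan_add 48640 256 (scan_add 48384 256 (scan_add 48128 256 (scan_add 47872 256 (scan_add 47616 256 (scan_add 47360 256 (scan_add 47104 256 (scan_add 46848 256 (scan_add 46592 256 (scan_add 46336 256 (scan_add 46080 256 (scan_add 45824 256 (scan_add 45568 256 (scan_add 45312 256 (scan_add 45056 256 (scan_add 44800 256 (scan_add 44544 256 (scan_add 44288 256 (scan_add 44032 256 (scan_add 43776 256 (scan_add 43520 256 (scan_add 43264 256 (scan_add 43008 256 (scan_add 42752 256 (scan_add 42496 256 (scan_add 42240 256 (scan_add 41984 256 (scan_add 41728 256 (scan_add 41472 256 (scan_add 41216 256 (scan_add 40960 256 (h) scanX40960) scanX41216) scanX41472) scanX41728) scanX41984) scanX42240) scanX42496) scanX42752) scanX43008) scanX43264) scanX43520) scanX43776) scanX44032)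 scanX44288) scanX44544) scanX44800) scanX45056) scanX45312) scanX45568) scanX45824) scanX46080) scanX46336) scanX46592) scanX46848) scanX47104) scanX47360) scanX47616) scanX47872) scanX48128) scanX48384) scanX48640) scanX48896) scanX49152) scanX49408) scanX49664) scanX49920) scanX50176) scanX50432) scanX50688) scanX50944) scanX51200) scanX51456) scanX51712) scanX51968) scanX52224) scanX52480) scanX52736) scanX52992) scanX53248) scanX53504) scanX53760) scanX54016) scanX54272) scanX54528) scanX54784) scanX55040) scanX55296) scanX55552) scanX55808) scanX56064) scanX56320) scanX56576) scanX56832) scanX57088) scanX57344) scanX57600) scanX57856) scanX58112) scanX58368) scanX58624) scanX58880) scanX59136) scanX59392) scanX59648) scanX59904) scanX60160) scanX60416) scanX60672) scanX60928) scanX61184) scanX61440) scanX61696) scanX61952) scanX62208) scanX62464) scanX62720) scanX62976) scanX63232) scanX63488) scanX63744) scanX64000) scanX64256) scanX64512) scanX64768) scanX65024) scanX65280) scanX65536) scanX65792) scanX66048) scanX66304) scanX66560) scanX66816) scanX67072) scanX67328) scanX67584) scanX67840) scanX68096) scanX68352) scanX68608) scanX68864) scanX69120) scanX69376) scanX69632) scanX69888) scanX70144) scanX70400) scanX70656) scanX70912)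 scanX71168) scanX71424) scanX71680) scanX71936) scanX72192) scanX72448) scanX72704) scanX72960) scanX73216) scanX73472) scanX73728) scanX73984) scanX74240) scanX74496) scanX74752) scanX75008) scanX75264) scanX75520) scanX75776) scanX76032) scanX76288) scanX76544) scanX76800) scanX77056) scanX77312) scanX77568) scanX77824) scanX78080) scanX78336) scanX78592) scanX78848) scanX79104) scanX79360) scanX79616) scanX79872) scanX80128) scanX80384) scanX80640) scanX80896) scanX81152) scanX81408) scanX81664

end Cfsg.Agent.ONOut
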