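import Cfsg.Agent.Lib.ONOut.Words

/-!
# A part of the scan
-/

set_option autoImplicit false
set_option Elab.async false
set_option maxHeartbeats 0
set_option maxRecDepth 100000

noncomputable section

namespace Cfsg.Agent.ONOut

open Cfsg.Spor Cfsg.Agent.InvCoset Cfsg.Agent.ONGroup

theorem scanX81920 : scanRows xW labsX allX 81920 256 = true := by decide +kernel

theorem scanX82176 : scanRows xW labsX allX 82176 256 = true := by decide +kernel

theorem scanX82432 : scanRows xW labsX allX 82432 256 = true := by decide +kernel

theorem scanX82688 : scanRows xW labsX allX 82688 256 = true := by decide +kernel

theorem scanX82944 : scanRows xW labsX allX 82944 256 = true := by decide +kernel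

theorem scanX83200 : scanRows xW labsX allX 83200 256 = true := by decide +kernel

theorem scanX83456 : scanRows xW labsX allX 83456 256 = true := by decide +kernel

theorem scanX83712 : scanRows xW labsX allX 83712 256 = true := by decide +kernel

theorem scanX83968 : scanRows xW labsX allX 83968 256 = true := by decide +kernel

theorem scanX84224 : scanRows xW labsX allX 84224 256 = true := by decide +kernel

theorem scanX84480 : scanRows xW labsX allX 84480 256 = true := by decide +kernel

theorem scanX84736 : scanRows xW labsX allX 84736 256 = true := by decide +kernel

theorem scanX84992 : scanRows xW labsX allX 84992 256 = true := by decide +kernel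

theorem scanX85248 : scanRows xW labsX allX 85248 256 = true := by decide +kernel

theorem scanX85504 : scanRows xW labsX allX 85504 256 = true := by decide +kernel

theorem scanX85760 : scanRows xW labsX allX 85760 256 = true := by decide +kernel

theorem scanX86016 : scanRows xW labsX allX 86016 256 = true := by decide +kernel

theorem scanX86272 : scanRows xW labsX allX 86272 256 = true := by decide +kernel

theorem scanX86528 : scanRows xW labsX allX 86528 256 = true := by decide +kernel

theorem scanX86784 : scanRows xW labsX allX 86784 256 = true := by decide +kernel

theorem scanX87040 : scanRows xW labsX allX 87040 256 = true := by decide +kernel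

theorem scanX87296 : scanRows xW labsX allX 87296 256 = true := by decide +kernel

theorem scanX87552 : scanRows xW labsX allX 87552 256 = true := by decide +kernel

theorem scanX87808 : scanRows xW labsX allX 87808 256 = true := by decide +kernel

theorem scanX88064 : scanRows xW labsX allX 88064 256 = true := by decide +kernel

theorem scanX88320 : scanRows xW labsX allX 88320 256 = true := by decide +kernel

theorem scanX88576 : scanRows xW labsX allX 88576 256 = true := by decide +kernel

theorem scanX88832 : scanRows xW labsX allX 88832 256 = true := by decide +kernel

theorem scanX89088 : scanRows xW labsX allX 89088 256 = true := by decide +kernel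

theorem scanX89344 : scanRows xW labsX allX 89344 256 = true := by decide +kernel

theorem scanX89600 : scanRows xW labsX allX 89600 256 = true := by decide +kernel

theorem scanX89856 : scanRows xW labsX allX 89856 256 = true := by decide +kernel

theorem scanX90112 : scanRows xW labsX allX 90112 256 = true := by decide +kernel

theorem scanX90368 : scanRows xW labsX allX 90368 256 = true := by decide +kernel

theorem scanX90624 : scanRows xW labsX allX 90624 256 = true := by decide +kernel

theorem scanX90880 : scanRows xW labsX allX 90880 256 = true := by decide +kernel

theorem scanX91136 : scanRows xW labsX allX 91136 256 = true := by decide +kernel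

theorem scanX91392 : scanRows xW labsX allX 91392 256 = true := by decide +kernel

theorem scanX91648 : scanRows xW labsX allX 91648 256 = true := by decide +kernel

theorem scanX91904 : scanRows xW labsX allX 91904 256 = true := by decide +kernel

theorem scanX92160 : scanRows xW labsX allX 92160 256 = true := by decide +kernel

theorem scanX92416 : scanRows xW labsX allX 92416 256 = true := by decide +kernel

theorem scanX92672 : scanRows xW labsX allX 92672 256 = true := by decide +kernel

theorem scanX92928 : scanRows xW labsX allX 92928 256 = true := by decide +kernel

theorem scanX93184 : scanRows xW labsX allX 93184 256 = true := by decide +kernel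

theorem scanX93440 : scanRows xW labsX allX 93440 256 = true := by decide +kernel

theorem scanX93696 : scanRows xW labsX allX 93696 256 = true := by decide +kernel

theorem scanX93952 : scanRows xW labsX allX 93952 256 = true := by decide +kernel

theorem scanX94208 : scanRows xW labsX allX 94208 256 = true := by decide +kernel

theorem scanX94464 : scanRows xW labsX allX 94464 256 = true := by decide +kernel

theorem scanX94720 : scanRows xW labsX allX 94720 256 = true := by decide +kernel

theorem scanX94976 : scanRows xW labsX allX 94976 256 = true := by decide +kernel

theorem scanX95232 : scanRows xW labsX allX 95232 256 = true := by decide +kernel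

theorem scanX95488 : scanRows xW labsX allX 95488 256 = true := by decide +kernel

theorem scanX95744 : scanRows xW labsX allX 95744 256 = true := by decide +kernel

theorem scanX96000 : scanRows xW labsX allX 96000 256 = true := by decide +kernel

theorem scanX96256 : scanRows xW labsX allX 96256 256 = true := by decide +kernel

theorem scanX96512 : scanRows xW labsX allX 96512 256 = true := by decide +kernel

theorem scanX96768 : scanRows xW labsX allX 96768 256 = true := by decide +kernel

theorem scanX97024 : scanRows xW labsX allX 97024 256 = true := by decide +kernel

theorem scanX97280 : scanRows xW labsX allX 97280 256 = true := by decide +kernel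

theorem scanX97536 : scanRows xW labsX allX 97536 256 = true := by decide +kernel

theorem scanX97792 : scanRows xW labsX allX 97792 256 = true := by decide +kernel

theorem scanX98048 : scanRows xW labsX allX 98048 256 = true := by decide +kernel

theorem scanX98304 : scanRows xW labsX allX 98304 256 = true := by decide +kernel

theorem scanX98560 : scanRows xW labsX allX 98560 256 = true := by decide +kernel

theorem scanX98816 : scanRows xW labsX allX 98816 256 = true := by decide +kernel

theorem scanX99072 : scanRows xW labsX allX 99072 256 = true := by decide +kernel

theorem scanX99328 : scanRows xW labsX allX 99328 256 = true := by decide +kernel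

theorem scanX99584 : scanRows xW labsX allX 99584 256 = true := by decide +kernel

theorem scanX99840 : scanRows xW labsX allX 99840 256 = true := by decide +kernel

theorem scanX100096 : scanRows xW labsX allX 100096 256 = true := by decide +kernel

theorem scanX100352 : scanRows xW labsX allX 100352 256 = true := by decide +kernel

theorem scanX100608 : scanRows xW labsX allX 100608 256 = true := by decide +kernel

theorem scanX100864 : scanRows xW labsX allX 100864 256 = true := by decide +kernel

theorem scanX101120 : scanRows xW labsX allX 101120 256 = true := by decide +kernel

theorem scanX101376 : scanRows xW labsX allX 101376 256 = true := by decide +kernel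

theorem scanX101632 : scanRows xW labsX allX 101632 256 = true := by decide +kernel

theorem scanX101888 : scanRows xW labsX allX 101888 256 = true := by decide +kernel

theorem scanX102144 : scanRows xW labsX allX 102144 256 = true := by decide +kernel

theorem scanX102400 : scanRows xW labsX allX 102400 256 = true := by decide +kernel

theorem scanX102656 : scanRows xW labsX allX 102656 256 = true := by decide +kernel

theorem scanX102912 : scanRows xW labsX allX 102912 256 = true := by decide +kernel

theorem scanX103168 : scanRows xW labsX allX 103168 256 = true := by decide +kernel

theorem scanX103424 : scanRows xW labsX allX 103424 256 = true := by decide +kernel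

theorem scanX103680 : scanRows xW labsX allX 103680 256 = true := by decide +kernel

theorem scanX103936 : scanRows xW labsX allX 103936 256 = true := by decide +kernel

theorem scanX104192 : scanRows xW labsX allX 104192 256 = true := by decide +kernel

theorem scanX104448 : scanRows xW labsX allX 104448 256 = true := by decide +kernel

theorem scanX104704 : scanRows xW labsX allX 104704 256 = true := by decide +kernel

theorem scanX104960 : scanRows xW labsX allX 104960 256 = true := by decide +kernel

theorem scanX105216 : scanRows xW labsX allX 105216 256 = true := by decide +kernel

theorem scanX105472 : scanRows xW labsX allX 105472 256 = true := by decide +kernel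

theorem scanX105728 : scanRows xW labsX allX 105728 256 = true := by decide +kernel

theorem scanX105984 : scanRows xW labsX allX 105984 256 = true := by decide +kernel

theorem scanX106240 : scanRows xW labsX allX 106240 256 = true := by decide +kernel

theorem scanX106496 : scanRows xW labsX allX 106496 256 = true := by decide +kernel

theorem scanX106752 : scanRows xW labsX allX 106752 256 = true := by decide +kernel

theorem scanX107008 : scanRows xW labsX allX 107008 256 = true := by decide +kernel

theorem scanX107264 : scanRows xW labsX allX 107264 256 = true := by decide +kernel

theorem scanX107520 : scanRows xW labsX allX 107520 256 = true := by decide +kernel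

theorem scanX107776 : scanRows xW labsX allX 107776 256 = true := by decide +kernel

theorem scanX108032 : scanRows xW labsX allX 108032 256 = true := by decide +kernel

theorem scanX108288 : scanRows xW labsX allX 108288 256 = true := by decide +kernel

theorem scanX108544 : scanRows xW labsX allX 108544 256 = true := by decide +kernel

theorem scanX108800 : scanRows xW labsX allX 108800 256 = true := by decide +kernel

theorem scanX109056 : scanRows xW labsX allX 109056 256 = true := by decide +kernel

theorem scanX109312 : scanRows xW labsX allX 109312 256 = true := by decide +kernel

theorem scanX109568 : scanRows xW labsX allX 109568 256 = true := by decide +kernel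

theorem scanX109824 : scanRows xW labsX allX 109824 256 = true := by decide +kernel

theorem scanX110080 : scanRows xW labsX allX 110080 256 = true := by decide +kernel

theorem scanX110336 : scanRows xW labsX allX 110336 256 = true := by decide +kernel

theorem scanX110592 : scanRows xW labsX allX 110592 256 = true := by decide +kernel

theorem scanX110848 : scanRows xW labsX allX 110848 256 = true := by decide +kernel

theorem scanX111104 : scanRows xW labsX allX 111104 256 = true := by decide +kernel

theorem scanX111360 : scanRows xW labsX allX 111360 256 = true := by decide +kernel

theorem scanX111616 : scanRows xW labsX allX 111616 256 = true := by decide +kernel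

theorem scanX111872 : scanRows xW labsX allX 111872 256 = true := by decide +kernel

theorem scanX112128 : scanRows xW labsX allX 112128 256 = true := by decide +kernel

theorem scanX112384 : scanRows xW labsX allX 112384 256 = true := by decide +kernel

theorem scanX112640 : scanRows xW labsX allX 112640 256 = true := by decide +kernel

theorem scanX112896 : scanRows xW labsX allX 112896 256 = true := by decide +kernel

theorem scanX113152 : scanRows xW labsX allX 113152 256 = true := by decide +kernel

theorem scanX113408 : scanRows xW labsX allX 113408 256 = true := by decide +kernel

theorem scanX113664 : scanRows xW labsX allX 113664 256 = true := by decide +kernel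

theorem scanX113920 : scanRows xW labsX allX 113920 256 = true := by decide +kernel

theorem scanX114176 : scanRows xW labsX allX 114176 256 = true := by decide +kernel

theorem scanX114432 : scanRows xW labsX allX 114432 256 = true := by decide +kernel

theorem scanX114688 : scanRows xW labsX allX 114688 256 = true := by decide +kernel

theorem scanX114944 : scanRows xW labsX allX 114944 256 = true := by decide +kernel

theorem scanX115200 : scanRows xW labsX allX 115200 256 = true := by decide +kernel

theorem scanX115456 : scanRows xW labsX allX 115456 256 = true := by decide +kernel

theorem scanX115712 : scanRows xW labsX allX 115712 256 = true := by decide +kernel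

theorem scanX115968 : scanRows xW labsX allX 115968 256 = true := by decide +kernel

theorem scanX116224 : scanRows xW labsX allX 116224 256 = true := by decide +kernel

theorem scanX116480 : scanRows xW labsX allX 116480 256 = true := by decide +kernel

theorem scanX116736 : scanRows xW labsX allX 116736 256 = true := by decide +kernel

theorem scanX116992 : scanRows xW labsX allX 116992 256 = true := by decide +kernel

theorem scanX117248 : scanRows xW labsX allX 117248 256 = true := by decide +kernel

theorem scanX117504 : scanRows xW labsX allX 117504 256 = true := by decide +kernel

theorem scanX117760 : scanRows xW labsX allX 117760 256 = true := by decide +kernel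

theorem scanX118016 : scanRows xW labsX allX 118016 256 = true := by decide +kernel

theorem scanX118272 : scanRows xW labsX allX 118272 256 = true := by decide +kernel

theorem scanX118528 : scanRows xW labsX allX 118528 256 = true := by decide +kernel

theorem scanX118784 : scanRows xW labsX allX 118784 256 = true := by decide +kernel

theorem scanX119040 : scanRows xW labsX allX 119040 256 = true := by decide +kernel

theorem scanX119296 : scanRows xW labsX allX 119296 256 = true := by decide +kernel

theorem scanX119552 : scanRows xW labsX allX 119552 256 = true := by decide +kernel

theorem scanX119808 : scanRows xW labsX allX 119808 256 = true := by decide +kernel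

theorem scanX120064 : scanRows xW labsX allX 120064 256 = true := by decide +kernel

theorem scanX120320 : scanRows xW labsX allX 120320 256 = true := by decide +kernel

theorem scanX120576 : scanRows xW labsX allX 120576 256 = true := by decide +kernel

theorem scanX120832 : scanRows xW labsX allX 120832 256 = true := by decide +kernel

theorem scanX121088 : scanRows xW labsX allX 121088 256 = true := by decide +kernel

theorem scanX121344 : scanRows xW labsX allX 121344 256 = true := by decide +kernel

theorem scanX121600 : scanRows xW labsX allX 121600 256 = true := by decide +kernel

theorem scanX121856 : scanRows xW labsX allX 121856 256 = true := by decide +kernel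

theorem scanX122112 : scanRows xW labsX allX 122112 256 = true := by decide +kernel

theorem scanX122368 : scanRows xW labsX allX 122368 256 = true := by decide +kernel

theorem scanX122624 : scanRows xW labsX allX 122624 136 = true := by decide +kernel

theorem scanXUpTo2 (h : ∀ i < 81920, (fails xW i labsX i || memNat i allX) = true) :
    ∀ i < 122760, (fails xW i labsX i || memNat i allX) = true :=
  scan_add 122624 136 (scan_add 122368 256 (scan_add 122112 256 (scan_add 121856 256 (scan_add 121600 256 (scan_add 121344 256 (scan_add 121088 256 (scan_add 120832 256 (scan_add 120576 256 (scan_add 120320 256 (scan_add 120064 256 (scan_add 119808 256 (scan_add 119552 256 (scan_add 119296 256 (scan_add 119040 256 (scan_add 118784 256 (scan_add 118528 256 (scan_add 118272 256 (scan_add 118016 256 (scan_add 117760 256 (scan_add 117504 256 (scan_add 117248 256 (scan_add 116992 256 (scan_add 116736 256 (scan_add 116480 256 (scan_add 116224 256 (scan_add 115968 256 (scan_add 115712 256 (scan_add 115456 256 (scan_add 115200 256 (scan_add 114944 256 (scan_add 114688 256 (scan_add 114432 256 (scan_add 114176 256 (scan_add 113920 256 (scan_add 113664 256 (scan_add 113408 256 (scan_add 113152 256 (scan_add 112896 256 (scan_add 112640 256 (scan_add 112384 256 (scan_add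 112128 256 (scan_add 111872 256 (scan_add 111616 256 (scan_add 111360 256 (scan_add 111104 256 (scan_add 110848 256 (scan_add 110592 256 (scan_add 110336 256 (scan_add 110080 256 (scan_add 109824 256 (scan_add 109568 256 (scan_add 109312 256 (scan_add 109056 256 (scan_add 108800 256 (scan_add 108544 256 (scan_add 108288 256 (scan_add 108032 256 (scan_add 107776 256 (scan_add 107520 256 (scan_add 107264 256 (scan_add 107008 256 (scan_add 106752 256 (scan_add 106496 256 (scan_add 106240 256 (scan_add 105984 256 (scan_add 105728 256 (scan_add 105472 256 (scan_add 105216 256 (scan_add 104960 256 (scan_add 104704 256 (scan_add 104448 256 (scan_add 104192 256 (scan_add 103936 256 (scan_add 103680 256 (scan_add 103424 256 (scan_add 103168 256 (scan_add 102912 256 (scan_add 102656 256 (scan_add 102400 256 (scan_add 102144 256 (scan_add 101888 256 (scan_add 101632 256 (scan_add 101376 256 (scan_add 101120 256 (scan_add 100864 256 (scan_add 100608 256 (scan_add 100352 256 (scan_add 100096 256 (scan_add 99840 256 (scan_add 99584 256 (scan_add 99328 256 (scan_add 99072 256 (scan_add 98816 256 (scan_add 98560 256 (scan_add 98304 256 (scan_add 98048 256 (scan_add 97792 256 (scan_add 97536 256 (scan_add 97280 256 (scan_add 97024 256 (scan_add 96768 256 (scan_add 96512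 256 (scan_add 96256 256 (scan_add 96000 256 (scan_add 95744 256 (scan_add 95488 256 (scan_add 95232 256 (scan_add 94976 256 (scan_add 94720 256 (scan_add 94464 256 (scan_add 94208 256 (scan_add 93952 256 (scan_add 93696 256 (scan_add 93440 256 (scan_add 93184 256 (scan_add 92928 256 (scan_add 92672 256 (scan_add 92416 256 (scan_add 92160 256 (scan_add 91904 256 (scan_add 91648 256 (scan_add 91392 256 (scan_add 91136 256 (scan_add 90880 256 (scan_add 90624 256 (scan_add 90368 256 (scan_add 90112 256 (scan_add 89856 256 (scan_add 89600 256 (scan_add 89344 256 (scan_add 89088 256 (scan_add 88832 256 (scan_add 88576 256 (scan_add 88320 256 (scan_add 88064 256 (scan_add 87808 256 (scan_add 87552 256 (scan_add 87296 256 (scan_add 87040 256 (scan_add 86784 256 (scan_add 86528 256 (scan_add 86272 256 (scan_add 86016 256 (scan_add 85760 256 (scan_add 85504 256 (scan_add 85248 256 (scan_add 84992 256 (scan_add 84736 256 (scan_add 84480 256 (scan_add 84224 256 (scan_add 83968 256 (scan_add 83712 256 (scan_add 83456 256 (scan_add 83200 256 (scan_add 82944 256 (scan_add 82688 256 (scan_add 82432 256 (scan_add 82176 256 (scan_add 81920 256 (h) scanX81920) scanX82176) scanX82432) scanX82688) scanX82944) scanX83200) scanX83456) scanX83712) scanX83968) scanX84224) scanX84480)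 scanX84736) scanX84992) scanX85248) scanX85504) scanX85760) scanX86016) scanX86272) scanX86528) scanX86784) scanX87040) scanX87296) scanX87552) scanX87808) scanX88064) scanX88320) scanX88576) scanX88832) scanX89088) scanX89344) scanX89600) scanX89856) scanX90112) scanX90368) scanX90624) scanX90880) scanX91136) scanX91392) scanX91648) scanX91904) scanX92160) scanX92416) scanX92672) scanX92928) scanX93184) scanX93440) scanX93696) scanX93952) scanX94208) scanX94464) scanX94720) scanX94976) scanX95232) scanX95488) scanX95744) scanX96000) scanX96256) scanX96512) scanX96768) scanX97024) scanX97280) scanX97536) scanX97792) scanX98048) scanX98304) scanX98560) scanX98816) scanX99072) scanX99328) scanX99584) scanX99840) scanX100096) scanX100352) scanX100608) scanX100864) scanX101120) scanX101376) scanX101632) scanX101888) scanX102144) scanX102400) scanX102656) scanX102912) scanX103168) scanX103424) scanX103680) scanX103936) scanX104192) scanX104448) scanX104704) scanX104960) scanX105216) scanX105472) scanX105728) scanX105984) scanX106240) scanX106496) scanX106752) scanX107008) scanX107264) scanX107520) scanX107776) scanX108032) scanX108288) scanX108544) scanX108800) scanX109056) scanX109312) scanX109568) scanX109824) scanX110080) scanX110336) scanX110592) scanX110848)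 scanX111104) scanX111360) scanX111616) scanX111872) scanX112128) scanX112384) scanX112640) scanX112896) scanX113152) scanX113408) scanX113664) scanX113920) scanX114176) scanX114432) scanX114688) scanX114944) scanX115200) scanX115456) scanX115712) scanX115968) scanX116224) scanX116480) scanX116736) scanX116992) scanX117248) scanX117504) scanX117760) scanX118016) scanX118272) scanX118528) scanX118784) scanX119040) scanX119296) scanX119552) scanX119808) scanX120064) scanX120320) scanX120576) scanX120832) scanX121088) scanX121344) scanX121600) scanX121856) scanX122112) scanX122368) scanX122624

end Cfsg.Agent.ONOut
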