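import Cfsg.Agent.Lib.ONOut.Words

/-!
# A part of the scan
-/

set_option autoImplicit false
set_option Elab.async false
set_option maxHeartbeats 0
set_option maxRecDepth 100000

noncomputable section

namespace Cfsg.Agent.ONOut

open Cfsg.Spor Cfsg.Agent.InvCoset Cfsg.Agent.ONGroup

theorem scanY0 : scanRows yW labsY allY 0 256 = true := by decide +kernel

theorem scanY256 : scanRows yW labsY allY 256 256 = true := by decide +kernel

theorem scanY512 : scanRows yW labsY allY 512 256 = true := by decide +kernel

theorem scanY768 : scanRows yW labsY allY 768 256 = true := by decide +kernel

theorem scanY1024 : scanRows yW labsY allY 1024 256 = true := by decide +kernel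

theorem scanY1280 : scanRows yW labsY allY 1280 256 = true := by decide +kernel

theorem scanY1536 : scanRows yW labsY allY 1536 256 = true := by decide +kernel

theorem scanY1792 : scanRows yW labsY allY 1792 256 = true := by decide +kernel

theorem scanY2048 : scanRows yW labsY allY 2048 256 = true := by decide +kernel

theorem scanY2304 : scanRows yW labsY allY 2304 256 = true := by decide +kernel

theorem scanY2560 : scanRows yW labsY allY 2560 256 = true := by decide +kernel

theorem scanY2816 : scanRows yW labsY allY 2816 256 = true := by decide +kernel

theorem scanY3072 : scanRows yW labsY allY 3072 256 = true := by decide +kernel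

theorem scanY3328 : scanRows yW labsY allY 3328 256 = true := by decide +kernel

theorem scanY3584 : scanRows yW labsY allY 3584 256 = true := by decide +kernel

theorem scanY3840 : scanRows yW labsY allY 3840 256 = true := by decide +kernel

theorem scanY4096 : scanRows yW labsY allY 4096 256 = true := by decide +kernel

theorem scanY4352 : scanRows yW labsY allY 4352 256 = true := by decide +kernel

theorem scanY4608 : scanRows yW labsY allY 4608 256 = true := by decide +kernel

theorem scanY4864 : scanRows yW labsY allY 4864 256 = true := by decide +kernel

theorem scanY5120 : scanRows yW labsY allY 5120 256 = true := by decide +kernel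

theorem scanY5376 : scanRows yW labsY allY 5376 256 = true := by decide +kernel

theorem scanY5632 : scanRows yW labsY allY 5632 256 = true := by decide +kernel

theorem scanY5888 : scanRows yW labsY allY 5888 256 = true := by decide +kernel

theorem scanY6144 : scanRows yW labsY allY 6144 256 = true := by decide +kernel

theorem scanY6400 : scanRows yW labsY allY 6400 256 = true := by decide +kernel

theorem scanY6656 : scanRows yW labsY allY 6656 256 = true := by decide +kernel

theorem scanY6912 : scanRows yW labsY allY 6912 256 = true := by decide +kernel

theorem scanY7168 : scanRows yW labsY allY 7168 256 = true := by decide +kernel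

theorem scanY7424 : scanRows yW labsY allY 7424 256 = true := by decide +kernel

theorem scanY7680 : scanRows yW labsY allY 7680 256 = true := by decide +kernel

theorem scanY7936 : scanRows yW labsY allY 7936 256 = true := by decide +kernel

theorem scanY8192 : scanRows yW labsY allY 8192 256 = true := by decide +kernel

theorem scanY8448 : scanRows yW labsY allY 8448 256 = true := by decide +kernel

theorem scanY8704 : scanRows yW labsY allY 8704 256 = true := by decide +kernel

theorem scanY8960 : scanRows yW labsY allY 8960 256 = true := by decide +kernel

theorem scanY9216 : scanRows yW labsY allY 9216 256 = true := by decide +kernel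

theorem scanY9472 : scanRows yW labsY allY 9472 256 = true := by decide +kernel

theorem scanY9728 : scanRows yW labsY allY 9728 256 = true := by decide +kernel

theorem scanY9984 : scanRows yW labsY allY 9984 256 = true := by decide +kernel

theorem scanY10240 : scanRows yW labsY allY 10240 256 = true := by decide +kernel

theorem scanY10496 : scanRows yW labsY allY 10496 256 = true := by decide +kernel

theorem scanY10752 : scanRows yW labsY allY 10752 256 = true := by decide +kernel

theorem scanY11008 : scanRows yW labsY allY 11008 256 = true := by decide +kernel

theorem scanY11264 : scanRows yW labsY allY 11264 256 = true := by decide +kernel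

theorem scanY11520 : scanRows yW labsY allY 11520 256 = true := by decide +kernel

theorem scanY11776 : scanRows yW labsY allY 11776 256 = true := by decide +kernel

theorem scanY12032 : scanRows yW labsY allY 12032 256 = true := by decide +kernel

theorem scanY12288 : scanRows yW labsY allY 12288 256 = true := by decide +kernel

theorem scanY12544 : scanRows yW labsY allY 12544 256 = true := by decide +kernel

theorem scanY12800 : scanRows yW labsY allY 12800 256 = true := by decide +kernel

theorem scanY13056 : scanRows yW labsY allY 13056 256 = true := by decide +kernel

theorem scanY13312 : scanRows yW labsY allY 13312 256 = true := by decide +kernel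

theorem scanY13568 : scanRows yW labsY allY 13568 256 = true := by decide +kernel

theorem scanY13824 : scanRows yW labsY allY 13824 256 = true := by decide +kernel

theorem scanY14080 : scanRows yW labsY allY 14080 256 = true := by decide +kernel

theorem scanY14336 : scanRows yW labsY allY 14336 256 = true := by decide +kernel

theorem scanY14592 : scanRows yW labsY allY 14592 256 = true := by decide +kernel

theorem scanY14848 : scanRows yW labsY allY 14848 256 = true := by decide +kernel

theorem scanY15104 : scanRows yW labsY allY 15104 256 = true := by decide +kernel

theorem scanY15360 : scanRows yW labsY allY 15360 256 = true := by decide +kernel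

theorem scanY15616 : scanRows yW labsY allY 15616 256 = true := by decide +kernel

theorem scanY15872 : scanRows yW labsY allY 15872 256 = true := by decide +kernel

theorem scanY16128 : scanRows yW labsY allY 16128 256 = true := by decide +kernel

theorem scanY16384 : scanRows yW labsY allY 16384 256 = true := by decide +kernel

theorem scanY16640 : scanRows yW labsY allY 16640 256 = true := by decide +kernel

theorem scanY16896 : scanRows yW labsY allY 16896 256 = true := by decide +kernel

theorem scanY17152 : scanRows yW labsY allY 17152 256 = true := by decide +kernel

theorem scanY17408 : scanRows yW labsY allY 17408 256 = true := by decide +kernel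

theorem scanY17664 : scanRows yW labsY allY 17664 256 = true := by decide +kernel

theorem scanY17920 : scanRows yW labsY allY 17920 256 = true := by decide +kernel

theorem scanY18176 : scanRows yW labsY allY 18176 256 = true := by decide +kernel

theorem scanY18432 : scanRows yW labsY allY 18432 256 = true := by decide +kernel

theorem scanY18688 : scanRows yW labsY allY 18688 256 = true := by decide +kernel

theorem scanY18944 : scanRows yW labsY allY 18944 256 = true := by decide +kernel

theorem scanY19200 : scanRows yW labsY allY 19200 256 = true := by decide +kernel

theorem scanY19456 : scanRows yW labsY allY 19456 256 = true := by decide +kernel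

theorem scanY19712 : scanRows yW labsY allY 19712 256 = true := by decide +kernel

theorem scanY19968 : scanRows yW labsY allY 19968 256 = true := by decide +kernel

theorem scanY20224 : scanRows yW labsY allY 20224 256 = true := by decide +kernel

theorem scanY20480 : scanRows yW labsY allY 20480 256 = true := by decide +kernel

theorem scanY20736 : scanRows yW labsY allY 20736 256 = true := by decide +kernel

theorem scanY20992 : scanRows yW labsY allY 20992 256 = true := by decide +kernel

theorem scanY21248 : scanRows yW labsY allY 21248 256 = true := by decide +kernel

theorem scanY21504 : scanRows yW labsY allY 21504 256 = true := by decide +kernel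

theorem scanY21760 : scanRows yW labsY allY 21760 256 = true := by decide +kernel

theorem scanY22016 : scanRows yW labsY allY 22016 256 = true := by decide +kernel

theorem scanY22272 : scanRows yW labsY allY 22272 256 = true := by decide +kernel

theorem scanY22528 : scanRows yW labsY allY 22528 256 = true := by decide +kernel

theorem scanY22784 : scanRows yW labsY allY 22784 256 = true := by decide +kernel

theorem scanY23040 : scanRows yW labsY allY 23040 256 = true := by decide +kernel

theorem scanY23296 : scanRows yW labsY allY 23296 256 = true := by decide +kernel

theorem scanY23552 : scanRows yW labsY allY 23552 256 = true := by decide +kernel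

theorem scanY23808 : scanRows yW labsY allY 23808 256 = true := by decide +kernel

theorem scanY24064 : scanRows yW labsY allY 24064 256 = true := by decide +kernel

theorem scanY24320 : scanRows yW labsY allY 24320 256 = true := by decide +kernel

theorem scanYUpTo0 (h : ∀ i < 0, (fails yW i labsY i || memNat i allY) = true) :
    ∀ i < 24576, (fails yW i labsY i || memNat i allY) = true :=
  scan_add 24320 256 (scan_add 24064 256 (scan_add 23808 256 (scan_add 23552 256 (scan_add 23296 256 (scan_add 23040 256 (scan_add 22784 256 (scan_add 22528 256 (scan_add 22272 256 (scan_add 22016 256 (scan_add 21760 256 (scan_add 21504 256 (scan_add 21248 256 (scan_add 20992 256 (scan_add 20736 256 (scan_add 20480 256 (scan_add 20224 256 (scan_add 19968 256 (scan_add 19712 256 (scan_add 19456 256 (scan_add 19200 256 (scan_add 18944 256 (scan_add 18688 256 (scan_add 18432 256 (scan_add 18176 256 (scan_add 17920 256 (scan_add 17664 256 (scan_add 17408 256 (scan_add 17152 256 (scan_add 16896 256 (scan_add 16640 256 (scan_add 16384 256 (scan_add 16128 256 (scan_add 15872 256 (scan_add 15616 256 (scan_add 15360 256 (scan_add 15104 256 (scan_add 14848 256 (scan_add 14592 256 (scan_add 14336 256 (scan_add 14080 256 (scan_add 13824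 256 (scan_add 13568 256 (scan_add 13312 256 (scan_add 13056 256 (scan_add 12800 256 (scan_add 12544 256 (scan_add 12288 256 (scan_add 12032 256 (scan_add 11776 256 (scan_add 11520 256 (scan_add 11264 256 (scan_add 11008 256 (scan_add 10752 256 (scan_add 10496 256 (scan_add 10240 256 (scan_add 9984 256 (scan_add 9728 256 (scan_add 9472 256 (scan_add 9216 256 (scan_add 8960 256 (scan_add 8704 256 (scan_add 8448 256 (scan_add 8192 256 (scan_add 7936 256 (scan_add 7680 256 (scan_add 7424 256 (scan_add 7168 256 (scan_add 6912 256 (scan_add 6656 256 (scan_add 6400 256 (scan_add 6144 256 (scan_add 5888 256 (scan_add 5632 256 (scan_add 5376 256 (scan_add 5120 256 (scan_add 4864 256 (scan_add 4608 256 (scan_add 4352 256 (scan_add 4096 256 (scan_add 3840 256 (scan_add 3584 256 (scan_add 3328 256 (scan_add 3072 256 (scan_add 2816 256 (scan_add 2560 256 (scan_add 2304 256 (scan_add 2048 256 (scan_add 1792 256 (scan_add 1536 256 (scan_add 1280 256 (scan_add 1024 256 (scan_add 768 256 (scan_add 512 256 (scan_add 256 256 (scan_add 0 256 (h) scanY0) scanY256) scanY512) scanY768) scanY1024) scanY1280) scanY1536) scanY1792) scanY2048) scanY2304) scanY2560) scanY2816) scanY3072) scanY3328) scanY3584) scanY3840) scanY4096) scanY4352)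 scanY4608) scanY4864) scanY5120) scanY5376) scanY5632) scanY5888) scanY6144) scanY6400) scanY6656) scanY6912) scanY7168) scanY7424) scanY7680) scanY7936) scanY8192) scanY8448) scanY8704) scanY8960) scanY9216) scanY9472) scanY9728) scanY9984) scanY10240) scanY10496) scanY10752) scanY11008) scanY11264) scanY11520) scanY11776) scanY12032) scanY12288) scanY12544) scanY12800) scanY13056) scanY13312) scanY13568) scanY13824) scanY14080) scanY14336) scanY14592) scanY14848) scanY15104) scanY15360) scanY15616) scanY15872) scanY16128) scanY16384) scanY16640) scanY16896) scanY17152) scanY17408) scanY17664) scanY17920) scanY18176) scanY18432) scanY18688) scanY18944) scanY19200) scanY19456) scanY19712) scanY19968) scanY20224) scanY20480) scanY20736) scanY20992) scanY21248) scanY21504) scanY21760) scanY22016) scanY22272) scanY22528) scanY22784) scanY23040) scanY23296) scanY23552) scanY23808) scanY24064) scanY24320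

end Cfsg.Agent.ONOut
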