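import Cfsg.Agent.Lib.ONOut.Words

/-!
# A part of the scan
-/

set_option autoImplicit false
set_option Elab.async false
set_option maxHeartbeats 0
set_option maxRecDepth 100000

noncomputable section

namespace Cfsg.Agent.ONOut

open Cfsg.Spor Cfsg.Agent.InvCoset Cfsg.Agent.ONGroup

theorem scanY24576 : scanRows yW labsY allY 24576 256 = true := by decide +kernel

theorem scanY24832 : scanRows yW labsY allY 24832 256 = true := by decide +kernel

theorem scanY25088 : scanRows yW labsY allY 25088 256 = true := by decide +kernel

theorem scanY25344 : scanRows yW labsY allY 25344 256 = true := by decide +kernel

theorem scanY25600 : scanRows yW labsY allY 25600 256 = true := by decide +kernel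

theorem scanY25856 : scanRows yW labsY allY 25856 256 = true := by decide +kernel

theorem scanY26112 : scanRows yW labsY allY 26112 256 = true := by decide +kernel

theorem scanY26368 : scanRows yW labsY allY 26368 256 = true := by decide +kernel

theorem scanY26624 : scanRows yW labsY allY 26624 256 = true := by decide +kernel

theorem scanY26880 : scanRows yW labsY allY 26880 256 = true := by decide +kernel

theorem scanY27136 : scanRows yW labsY allY 27136 256 = true := by decide +kernel

theorem scanY27392 : scanRows yW labsY allY 27392 256 = true := by decide +kernel

theorem scanY27648 : scanRows yW labsY allY 27648 256 = true := by decide +kernel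

theorem scanY27904 : scanRows yW labsY allY 27904 256 = true := by decide +kernel

theorem scanY28160 : scanRows yW labsY allY 28160 256 = true := by decide +kernel

theorem scanY28416 : scanRows yW labsY allY 28416 256 = true := by decide +kernel

theorem scanY28672 : scanRows yW labsY allY 28672 256 = true := by decide +kernel

theorem scanY28928 : scanRows yW labsY allY 28928 256 = true := by decide +kernel

theorem scanY29184 : scanRows yW labsY allY 29184 256 = true := by decide +kernel

theorem scanY29440 : scanRows yW labsY allY 29440 256 = true := by decide +kernel

theorem scanY29696 : scanRows yW labsY allY 29696 256 = true := by decide +kernel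

theorem scanY29952 : scanRows yW labsY allY 29952 256 = true := by decide +kernel

theorem scanY30208 : scanRows yW labsY allY 30208 256 = true := by decide +kernel

theorem scanY30464 : scanRows yW labsY allY 30464 256 = true := by decide +kernel

theorem scanY30720 : scanRows yW labsY allY 30720 256 = true := by decide +kernel

theorem scanY30976 : scanRows yW labsY allY 30976 256 = true := by decide +kernel

theorem scanY31232 : scanRows yW labsY allY 31232 256 = true := by decide +kernel

theorem scanY31488 : scanRows yW labsY allY 31488 256 = true := by decide +kernel

theorem scanY31744 : scanRows yW labsY allY 31744 256 = true := by decide +kernel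

theorem scanY32000 : scanRows yW labsY allY 32000 256 = true := by decide +kernel

theorem scanY32256 : scanRows yW labsY allY 32256 256 = true := by decide +kernel

theorem scanY32512 : scanRows yW labsY allY 32512 256 = true := by decide +kernel

theorem scanY32768 : scanRows yW labsY allY 32768 256 = true := by decide +kernel

theorem scanY33024 : scanRows yW labsY allY 33024 256 = true := by decide +kernel

theorem scanY33280 : scanRows yW labsY allY 33280 256 = true := by decide +kernel

theorem scanY33536 : scanRows yW labsY allY 33536 256 = true := by decide +kernel

theorem scanY33792 : scanRows yW labsY allY 33792 256 = true := by decide +kernel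

theorem scanY34048 : scanRows yW labsY allY 34048 256 = true := by decide +kernel

theorem scanY34304 : scanRows yW labsY allY 34304 256 = true := by decide +kernel

theorem scanY34560 : scanRows yW labsY allY 34560 256 = true := by decide +kernel

theorem scanY34816 : scanRows yW labsY allY 34816 256 = true := by decide +kernel

theorem scanY35072 : scanRows yW labsY allY 35072 256 = true := by decide +kernel

theorem scanY35328 : scanRows yW labsY allY 35328 256 = true := by decide +kernel

theorem scanY35584 : scanRows yW labsY allY 35584 256 = true := by decide +kernel

theorem scanY35840 : scanRows yW labsY allY 35840 256 = true := by decide +kernel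

theorem scanY36096 : scanRows yW labsY allY 36096 256 = true := by decide +kernel

theorem scanY36352 : scanRows yW labsY allY 36352 256 = true := by decide +kernel

theorem scanY36608 : scanRows yW labsY allY 36608 256 = true := by decide +kernel

theorem scanY36864 : scanRows yW labsY allY 36864 256 = true := by decide +kernel

theorem scanY37120 : scanRows yW labsY allY 37120 256 = true := by decide +kernel

theorem scanY37376 : scanRows yW labsY allY 37376 256 = true := by decide +kernel

theorem scanY37632 : scanRows yW labsY allY 37632 256 = true := by decide +kernel

theorem scanY37888 : scanRows yW labsY allY 37888 256 = true := by decide +kernel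

theorem scanY38144 : scanRows yW labsY allY 38144 256 = true := by decide +kernel

theorem scanY38400 : scanRows yW labsY allY 38400 256 = true := by decide +kernel

theorem scanY38656 : scanRows yW labsY allY 38656 256 = true := by decide +kernel

theorem scanY38912 : scanRows yW labsY allY 38912 256 = true := by decide +kernel

theorem scanY39168 : scanRows yW labsY allY 39168 256 = true := by decide +kernel

theorem scanY39424 : scanRows yW labsY allY 39424 256 = true := by decide +kernel

theorem scanY39680 : scanRows yW labsY allY 39680 256 = true := by decide +kernel

theorem scanY39936 : scanRows yW labsY allY 39936 256 = true := by decide +kernel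

theorem scanY40192 : scanRows yW labsY allY 40192 256 = true := by decide +kernel

theorem scanY40448 : scanRows yW labsY allY 40448 256 = true := by decide +kernel

theorem scanY40704 : scanRows yW labsY allY 40704 256 = true := by decide +kernel

theorem scanY40960 : scanRows yW labsY allY 40960 256 = true := by decide +kernel

theorem scanY41216 : scanRows yW labsY allY 41216 256 = true := by decide +kernel

theorem scanY41472 : scanRows yW labsY allY 41472 256 = true := by decide +kernel

theorem scanY41728 : scanRows yW labsY allY 41728 256 = true := by decide +kernel

theorem scanY41984 : scanRows yW labsY allY 41984 256 = true := by decide +kernel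

theorem scanY42240 : scanRows yW labsY allY 42240 256 = true := by decide +kernel

theorem scanY42496 : scanRows yW labsY allY 42496 256 = true := by decide +kernel

theorem scanY42752 : scanRows yW labsY allY 42752 256 = true := by decide +kernel

theorem scanY43008 : scanRows yW labsY allY 43008 256 = true := by decide +kernel

theorem scanY43264 : scanRows yW labsY allY 43264 256 = true := by decide +kernel

theorem scanY43520 : scanRows yW labsY allY 43520 256 = true := by decide +kernel

theorem scanY43776 : scanRows yW labsY allY 43776 256 = true := by decide +kernel

theorem scanY44032 : scanRows yW labsY allY 44032 256 = true := by decide +kernel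

theorem scanY44288 : scanRows yW labsY allY 44288 256 = true := by decide +kernel

theorem scanY44544 : scanRows yW labsY allY 44544 256 = true := by decide +kernel

theorem scanY44800 : scanRows yW labsY allY 44800 256 = true := by decide +kernel

theorem scanY45056 : scanRows yW labsY allY 45056 256 = true := by decide +kernel

theorem scanY45312 : scanRows yW labsY allY 45312 256 = true := by decide +kernel

theorem scanY45568 : scanRows yW labsY allY 45568 256 = true := by decide +kernel

theorem scanY45824 : scanRows yW labsY allY 45824 256 = true := by decide +kernel

theorem scanY46080 : scanRows yW labsY allY 46080 256 = true := by decide +kernel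

theorem scanY46336 : scanRows yW labsY allY 46336 256 = true := by decide +kernel

theorem scanY46592 : scanRows yW labsY allY 46592 256 = true := by decide +kernel

theorem scanY46848 : scanRows yW labsY allY 46848 256 = true := by decide +kernel

theorem scanY47104 : scanRows yW labsY allY 47104 256 = true := by decide +kernel

theorem scanY47360 : scanRows yW labsY allY 47360 256 = true := by decide +kernel

theorem scanY47616 : scanRows yW labsY allY 47616 256 = true := by decide +kernel

theorem scanY47872 : scanRows yW labsY allY 47872 256 = true := by decide +kernel

theorem scanY48128 : scanRows yW labsY allY 48128 256 = true := by decide +kernel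

theorem scanY48384 : scanRows yW labsY allY 48384 256 = true := by decide +kernel

theorem scanY48640 : scanRows yW labsY allY 48640 256 = true := by decide +kernel

theorem scanY48896 : scanRows yW labsY allY 48896 256 = true := by decide +kernel

theorem scanYUpTo1 (h : ∀ i < 24576, (fails yW i labsY i || memNat i allY) = true) :
    ∀ i < 49152, (fails yW i labsY i || memNat i allY) = true :=
  scan_add 48896 256 (scan_add 48640 256 (scan_add 48384 256 (scan_add 48128 256 (scan_add 47872 256 (scan_add 47616 256 (scan_add 47360 256 (scan_add 47104 256 (scan_add 46848 256 (scan_add 46592 256 (scan_add 46336 256 (scan_add 46080 256 (scan_add 45824 256 (scan_add 45568 256 (scan_add 45312 256 (scan_add 45056 256 (scan_add 44800 256 (scan_add 44544 256 (scan_add 44288 256 (scan_add 44032 256 (scan_add 43776 256 (scan_add 43520 256 (scan_add 43264 256 (scan_add 43008 256 (scan_add 42752 256 (scan_add 42496 256 (scan_add 42240 256 (scan_add 41984 256 (scan_add 41728 256 (scan_add 41472 256 (scan_add 41216 256 (scan_add 40960 256 (scan_add 40704 256 (scan_add 40448 256 (scan_add 40192 256 (scan_add 39936 256 (scan_add 39680 256 (scan_add 39424 256 (scan_add 39168 256 (scan_add 38912 256 (scan_add 38656 256 (scan_add 38400 256 (scan_add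 38144 256 (scan_add 37888 256 (scan_add 37632 256 (scan_add 37376 256 (scan_add 37120 256 (scan_add 36864 256 (scan_add 36608 256 (scan_add 36352 256 (scan_add 36096 256 (scan_add 35840 256 (scan_add 35584 256 (scan_add 35328 256 (scan_add 35072 256 (scan_add 34816 256 (scan_add 34560 256 (scan_add 34304 256 (scan_add 34048 256 (scan_add 33792 256 (scan_add 33536 256 (scan_add 33280 256 (scan_add 33024 256 (scan_add 32768 256 (scan_add 32512 256 (scan_add 32256 256 (scan_add 32000 256 (scan_add 31744 256 (scan_add 31488 256 (scan_add 31232 256 (scan_add 30976 256 (scan_add 30720 256 (scan_add 30464 256 (scan_add 30208 256 (scan_add 29952 256 (scan_add 29696 256 (scan_add 29440 256 (scan_add 29184 256 (scan_add 28928 256 (scan_add 28672 256 (scan_add 28416 256 (scan_add 28160 256 (scan_add 27904 256 (scan_add 27648 256 (scan_add 27392 256 (scan_add 27136 256 (scan_add 26880 256 (scan_add 26624 256 (scan_add 26368 256 (scan_add 26112 256 (scan_add 25856 256 (scan_add 25600 256 (scan_add 25344 256 (scan_add 25088 256 (scan_add 24832 256 (scan_add 24576 256 (h) scanY24576) scanY24832) scanY25088) scanY25344) scanY25600) scanY25856) scanY26112) scanY26368) scanY26624) scanY26880) scanY27136) scanY27392) scanY27648) scanY27904) scanY28160)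 scanY28416) scanY28672) scanY28928) scanY29184) scanY29440) scanY29696) scanY29952) scanY30208) scanY30464) scanY30720) scanY30976) scanY31232) scanY31488) scanY31744) scanY32000) scanY32256) scanY32512) scanY32768) scanY33024) scanY33280) scanY33536) scanY33792) scanY34048) scanY34304) scanY34560) scanY34816) scanY35072) scanY35328) scanY35584) scanY35840) scanY36096) scanY36352) scanY36608) scanY36864) scanY37120) scanY37376) scanY37632) scanY37888) scanY38144) scanY38400) scanY38656) scanY38912) scanY39168) scanY39424) scanY39680) scanY39936) scanY40192) scanY40448) scanY40704) scanY40960) scanY41216) scanY41472) scanY41728) scanY41984) scanY42240) scanY42496) scanY42752) scanY43008) scanY43264) scanY43520) scanY43776) scanY44032) scanY44288) scanY44544) scanY44800) scanY45056) scanY45312) scanY45568) scanY45824) scanY46080) scanY46336) scanY46592) scanY46848) scanY47104) scanY47360) scanY47616) scanY47872) scanY48128) scanY48384) scanY48640) scanY48896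

end Cfsg.Agent.ONOut
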