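import Cfsg.Agent.Lib.ONOut.Words

/-!
# A part of the scan
-/

set_option autoImplicit false
set_option Elab.async false
set_option maxHeartbeats 0
set_option maxRecDepth 100000

noncomputable section

namespace Cfsg.Agent.ONOut

open Cfsg.Spor Cfsg.Agent.InvCoset Cfsg.Agent.ONGroup

theorem scanY49152 : scanRows yW labsY allY 49152 256 = true := by decide +kernel

theorem scanY49408 : scanRows yW labsY allY 49408 256 = true := by decide +kernel

theorem scanY49664 : scanRows yW labsY allY 49664 256 = true := by decide +kernel

theorem scanY49920 : scanRows yW labsY allY 49920 256 = true := by decide +kernel

theorem scanY50176 : scanRows yW labsY allY 50176 256 = true := by decide +kernel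

theorem scanY50432 : scanRows yW labsY allY 50432 256 = true := by decide +kernel

theorem scanY50688 : scanRows yW labsY allY 50688 256 = true := by decide +kernel

theorem scanY50944 : scanRows yW labsY allY 50944 256 = true := by decide +kernel

theorem scanY51200 : scanRows yW labsY allY 51200 256 = true := by decide +kernel

theorem scanY51456 : scanRows yW labsY allY 51456 256 = true := by decide +kernel

theorem scanY51712 : scanRows yW labsY allY 51712 256 = true := by decide +kernel

theorem scanY51968 : scanRows yW labsY allY 51968 256 = true := by decide +kernel

theorem scanY52224 : scanRows yW labsY allY 52224 256 = true := by decide +kernel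

theorem scanY52480 : scanRows yW labsY allY 52480 256 = true := by decide +kernel

theorem scanY52736 : scanRows yW labsY allY 52736 256 = true := by decide +kernel

theorem scanY52992 : scanRows yW labsY allY 52992 256 = true := by decide +kernel

theorem scanY53248 : scanRows yW labsY allY 53248 256 = true := by decide +kernel

theorem scanY53504 : scanRows yW labsY allY 53504 256 = true := by decide +kernel

theorem scanY53760 : scanRows yW labsY allY 53760 256 = true := by decide +kernel

theorem scanY54016 : scanRows yW labsY allY 54016 256 = true := by decide +kernel

theorem scanY54272 : scanRows yW labsY allY 54272 256 = true := by decide +kernel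

theorem scanY54528 : scanRows yW labsY allY 54528 256 = true := by decide +kernel

theorem scanY54784 : scanRows yW labsY allY 54784 256 = true := by decide +kernel

theorem scanY55040 : scanRows yW labsY allY 55040 256 = true := by decide +kernel

theorem scanY55296 : scanRows yW labsY allY 55296 256 = true := by decide +kernel

theorem scanY55552 : scanRows yW labsY allY 55552 256 = true := by decide +kernel

theorem scanY55808 : scanRows yW labsY allY 55808 256 = true := by decide +kernel

theorem scanY56064 : scanRows yW labsY allY 56064 256 = true := by decide +kernel

theorem scanY56320 : scanRows yW labsY allY 56320 256 = true := by decide +kernel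

theorem scanY56576 : scanRows yW labsY allY 56576 256 = true := by decide +kernel

theorem scanY56832 : scanRows yW labsY allY 56832 256 = true := by decide +kernel

theorem scanY57088 : scanRows yW labsY allY 57088 256 = true := by decide +kernel

theorem scanY57344 : scanRows yW labsY allY 57344 256 = true := by decide +kernel

theorem scanY57600 : scanRows yW labsY allY 57600 256 = true := by decide +kernel

theorem scanY57856 : scanRows yW labsY allY 57856 256 = true := by decide +kernel

theorem scanY58112 : scanRows yW labsY allY 58112 256 = true := by decide +kernel

theorem scanY58368 : scanRows yW labsY allY 58368 256 = true := by decide +kernel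

theorem scanY58624 : scanRows yW labsY allY 58624 256 = true := by decide +kernel

theorem scanY58880 : scanRows yW labsY allY 58880 256 = true := by decide +kernel

theorem scanY59136 : scanRows yW labsY allY 59136 256 = true := by decide +kernel

theorem scanY59392 : scanRows yW labsY allY 59392 256 = true := by decide +kernel

theorem scanY59648 : scanRows yW labsY allY 59648 256 = true := by decide +kernel

theorem scanY59904 : scanRows yW labsY allY 59904 256 = true := by decide +kernel

theorem scanY60160 : scanRows yW labsY allY 60160 256 = true := by decide +kernel

theorem scanY60416 : scanRows yW labsY allY 60416 256 = true := by decide +kernel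

theorem scanY60672 : scanRows yW labsY allY 60672 256 = true := by decide +kernel

theorem scanY60928 : scanRows yW labsY allY 60928 256 = true := by decide +kernel

theorem scanY61184 : scanRows yW labsY allY 61184 256 = true := by decide +kernel

theorem scanY61440 : scanRows yW labsY allY 61440 256 = true := by decide +kernel

theorem scanY61696 : scanRows yW labsY allY 61696 256 = true := by decide +kernel

theorem scanY61952 : scanRows yW labsY allY 61952 256 = true := by decide +kernel

theorem scanY62208 : scanRows yW labsY allY 62208 256 = true := by decide +kernel

theorem scanY62464 : scanRows yW labsY allY 62464 256 = true := by decide +kernel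

theorem scanY62720 : scanRows yW labsY allY 62720 256 = true := by decide +kernel

theorem scanY62976 : scanRows yW labsY allY 62976 256 = true := by decide +kernel

theorem scanY63232 : scanRows yW labsY allY 63232 256 = true := by decide +kernel

theorem scanY63488 : scanRows yW labsY allY 63488 256 = true := by decide +kernel

theorem scanY63744 : scanRows yW labsY allY 63744 256 = true := by decide +kernel

theorem scanY64000 : scanRows yW labsY allY 64000 256 = true := by decide +kernel

theorem scanY64256 : scanRows yW labsY allY 64256 256 = true := by decide +kernel

theorem scanY64512 : scanRows yW labsY allY 64512 256 = true := by decide +kernel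

theorem scanY64768 : scanRows yW labsY allY 64768 256 = true := by decide +kernel

theorem scanY65024 : scanRows yW labsY allY 65024 256 = true := by decide +kernel

theorem scanY65280 : scanRows yW labsY allY 65280 256 = true := by decide +kernel

theorem scanY65536 : scanRows yW labsY allY 65536 256 = true := by decide +kernel

theorem scanY65792 : scanRows yW labsY allY 65792 256 = true := by decide +kernel

theorem scanY66048 : scanRows yW labsY allY 66048 256 = true := by decide +kernel

theorem scanY66304 : scanRows yW labsY allY 66304 256 = true := by decide +kernel

theorem scanY66560 : scanRows yW labsY allY 66560 256 = true := by decide +kernel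

theorem scanY66816 : scanRows yW labsY allY 66816 256 = true := by decide +kernel

theorem scanY67072 : scanRows yW labsY allY 67072 256 = true := by decide +kernel

theorem scanY67328 : scanRows yW labsY allY 67328 256 = true := by decide +kernel

theorem scanY67584 : scanRows yW labsY allY 67584 256 = true := by decide +kernel

theorem scanY67840 : scanRows yW labsY allY 67840 256 = true := by decide +kernel

theorem scanY68096 : scanRows yW labsY allY 68096 256 = true := by decide +kernel

theorem scanY68352 : scanRows yW labsY allY 68352 256 = true := by decide +kernel

theorem scanY68608 : scanRows yW labsY allY 68608 256 = true := by decide +kernel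

theorem scanY68864 : scanRows yW labsY allY 68864 256 = true := by decide +kernel

theorem scanY69120 : scanRows yW labsY allY 69120 256 = true := by decide +kernel

theorem scanY69376 : scanRows yW labsY allY 69376 256 = true := by decide +kernel

theorem scanY69632 : scanRows yW labsY allY 69632 256 = true := by decide +kernel

theorem scanY69888 : scanRows yW labsY allY 69888 256 = true := by decide +kernel

theorem scanY70144 : scanRows yW labsY allY 70144 256 = true := by decide +kernel

theorem scanY70400 : scanRows yW labsY allY 70400 256 = true := by decide +kernel

theorem scanY70656 : scanRows yW labsY allY 70656 256 = true := by decide +kernel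

theorem scanY70912 : scanRows yW labsY allY 70912 256 = true := by decide +kernel

theorem scanY71168 : scanRows yW labsY allY 71168 256 = true := by decide +kernel

theorem scanY71424 : scanRows yW labsY allY 71424 256 = true := by decide +kernel

theorem scanY71680 : scanRows yW labsY allY 71680 256 = true := by decide +kernel

theorem scanY71936 : scanRows yW labsY allY 71936 256 = true := by decide +kernel

theorem scanY72192 : scanRows yW labsY allY 72192 256 = true := by decide +kernel

theorem scanY72448 : scanRows yW labsY allY 72448 256 = true := by decide +kernel

theorem scanY72704 : scanRows yW labsY allY 72704 256 = true := by decide +kernel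

theorem scanY72960 : scanRows yW labsY allY 72960 256 = true := by decide +kernel

theorem scanY73216 : scanRows yW labsY allY 73216 256 = true := by decide +kernel

theorem scanY73472 : scanRows yW labsY allY 73472 256 = true := by decide +kernel

theorem scanYUpTo2 (h : ∀ i < 49152, (fails yW i labsY i || memNat i allY) = true) :
    ∀ i < 73728, (fails yW i labsY i || memNat i allY) = true :=
  scan_add 73472 256 (scan_add 73216 256 (scan_add 72960 256 (scan_add 72704 256 (scan_add 72448 256 (scan_add 72192 256 (scan_add 71936 256 (scan_add 71680 256 (scan_add 71424 256 (scan_add 71168 256 (scan_add 70912 256 (scan_add 70656 256 (scan_add 70400 256 (scan_add 70144 256 (scan_add 69888 256 (scan_add 69632 256 (scan_add 69376 256 (scan_add 69120 256 (scan_add 68864 256 (scan_add 68608 256 (scan_add 68352 256 (scan_add 68096 256 (scan_add 67840 256 (scan_add 67584 256 (scan_add 67328 256 (scan_add 67072 256 (scan_add 66816 256 (scan_add 66560 256 (scan_add 66304 256 (scan_add 66048 256 (scan_add 65792 256 (scan_add 65536 256 (scan_add 65280 256 (scan_add 65024 256 (scan_add 64768 256 (scan_add 64512 256 (scan_add 64256 256 (scan_add 64000 256 (scan_add 63744 256 (scan_add 63488 256 (scan_add 63232 256 (scan_add 62976 256 (scan_add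 62720 256 (scan_add 62464 256 (scan_add 62208 256 (scan_add 61952 256 (scan_add 61696 256 (scan_add 61440 256 (scan_add 61184 256 (scan_add 60928 256 (scan_add 60672 256 (scan_add 60416 256 (scan_add 60160 256 (scan_add 59904 256 (scan_add 59648 256 (scan_add 59392 256 (scan_add 59136 256 (scan_add 58880 256 (scan_add 58624 256 (scan_add 58368 256 (scan_add 58112 256 (scan_add 57856 256 (scan_add 57600 256 (scan_add 57344 256 (scan_add 57088 256 (scan_add 56832 256 (scan_add 56576 256 (scan_add 56320 256 (scan_add 56064 256 (scan_add 55808 256 (scan_add 55552 256 (scan_add 55296 256 (scan_add 55040 256 (scan_add 54784 256 (scan_add 54528 256 (scan_add 54272 256 (scan_add 54016 256 (scan_add 53760 256 (scan_add 53504 256 (scan_add 53248 256 (scan_add 52992 256 (scan_add 52736 256 (scan_add 52480 256 (scan_add 52224 256 (scan_add 51968 256 (scan_add 51712 256 (scan_add 51456 256 (scan_add 51200 256 (scan_add 50944 256 (scan_add 50688 256 (scan_add 50432 256 (scan_add 50176 256 (scan_add 49920 256 (scan_add 49664 256 (scan_add 49408 256 (scan_add 49152 256 (h) scanY49152) scanY49408) scanY49664) scanY49920) scanY50176) scanY50432) scanY50688) scanY50944) scanY51200) scanY51456) scanY51712) scanY51968) scanY52224) scanY52480) scanY52736)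 scanY52992) scanY53248) scanY53504) scanY53760) scanY54016) scanY54272) scanY54528) scanY54784) scanY55040) scanY55296) scanY55552) scanY55808) scanY56064) scanY56320) scanY56576) scanY56832) scanY57088) scanY57344) scanY57600) scanY57856) scanY58112) scanY58368) scanY58624) scanY58880) scanY59136) scanY59392) scanY59648) scanY59904) scanY60160) scanY60416) scanY60672) scanY60928) scanY61184) scanY61440) scanY61696) scanY61952) scanY62208) scanY62464) scanY62720) scanY62976) scanY63232) scanY63488) scanY63744) scanY64000) scanY64256) scanY64512) scanY64768) scanY65024) scanY65280) scanY65536) scanY65792) scanY66048) scanY66304) scanY66560) scanY66816) scanY67072) scanY67328) scanY67584) scanY67840) scanY68096) scanY68352) scanY68608) scanY68864) scanY69120) scanY69376) scanY69632) scanY69888) scanY70144) scanY70400) scanY70656) scanY70912) scanY71168) scanY71424) scanY71680) scanY71936) scanY72192) scanY72448) scanY72704) scanY72960) scanY73216) scanY73472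

end Cfsg.Agent.ONOut
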