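import Cfsg.Agent.Lib.ONOut.Words

/-!
# A part of the scan
-/

set_option autoImplicit false
set_option Elab.async false
set_option maxHeartbeats 0
set_option maxRecDepth 100000

noncomputable section

namespace Cfsg.Agent.ONOut

open Cfsg.Spor Cfsg.Agent.InvCoset Cfsg.Agent.ONGroup

theorem scanY73728 : scanRows yW labsY allY 73728 256 = true := by decide +kernel

theorem scanY73984 : scanRows yW labsY allY 73984 256 = true := by decide +kernel

theorem scanY74240 : scanRows yW labsY allY 74240 256 = true := by decide +kernel

theorem scanY74496 : scanRows yW labsY allY 74496 256 = true := by decide +kernel

theorem scanY74752 : scanRows yW labsY allY 74752 256 = true := by decide +kernel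

theorem scanY75008 : scanRows yW labsY allY 75008 256 = true := by decide +kernel

theorem scanY75264 : scanRows yW labsY allY 75264 256 = true := by decide +kernel

theorem scanY75520 : scanRows yW labsY allY 75520 256 = true := by decide +kernel

theorem scanY75776 : scanRows yW labsY allY 75776 256 = true := by decide +kernel

theorem scanY76032 : scanRows yW labsY allY 76032 256 = true := by decide +kernel

theorem scanY76288 : scanRows yW labsY allY 76288 256 = true := by decide +kernel

theorem scanY76544 : scanRows yW labsY allY 76544 256 = true := by decide +kernel

theorem scanY76800 : scanRows yW labsY allY 76800 256 = true := by decide +kernel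

theorem scanY77056 : scanRows yW labsY allY 77056 256 = true := by decide +kernel

theorem scanY77312 : scanRows yW labsY allY 77312 256 = true := by decide +kernel

theorem scanY77568 : scanRows yW labsY allY 77568 256 = true := by decide +kernel

theorem scanY77824 : scanRows yW labsY allY 77824 256 = true := by decide +kernel

theorem scanY78080 : scanRows yW labsY allY 78080 256 = true := by decide +kernel

theorem scanY78336 : scanRows yW labsY allY 78336 256 = true := by decide +kernel

theorem scanY78592 : scanRows yW labsY allY 78592 256 = true := by decide +kernel

theorem scanY78848 : scanRows yW labsY allY 78848 256 = true := by decide +kernel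

theorem scanY79104 : scanRows yW labsY allY 79104 256 = true := by decide +kernel

theorem scanY79360 : scanRows yW labsY allY 79360 256 = true := by decide +kernel

theorem scanY79616 : scanRows yW labsY allY 79616 256 = true := by decide +kernel

theorem scanY79872 : scanRows yW labsY allY 79872 256 = true := by decide +kernel

theorem scanY80128 : scanRows yW labsY allY 80128 256 = true := by decide +kernel

theorem scanY80384 : scanRows yW labsY allY 80384 256 = true := by decide +kernel

theorem scanY80640 : scanRows yW labsY allY 80640 256 = true := by decide +kernel

theorem scanY80896 : scanRows yW labsY allY 80896 256 = true := by decide +kernel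

theorem scanY81152 : scanRows yW labsY allY 81152 256 = true := by decide +kernel

theorem scanY81408 : scanRows yW labsY allY 81408 256 = true := by decide +kernel

theorem scanY81664 : scanRows yW labsY allY 81664 256 = true := by decide +kernel

theorem scanY81920 : scanRows yW labsY allY 81920 256 = true := by decide +kernel

theorem scanY82176 : scanRows yW labsY allY 82176 256 = true := by decide +kernel

theorem scanY82432 : scanRows yW labsY allY 82432 256 = true := by decide +kernel

theorem scanY82688 : scanRows yW labsY allY 82688 256 = true := by decide +kernel

theorem scanY82944 : scanRows yW labsY allY 82944 256 = true := by decide +kernel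

theorem scanY83200 : scanRows yW labsY allY 83200 256 = true := by decide +kernel

theorem scanY83456 : scanRows yW labsY allY 83456 256 = true := by decide +kernel

theorem scanY83712 : scanRows yW labsY allY 83712 256 = true := by decide +kernel

theorem scanY83968 : scanRows yW labsY allY 83968 256 = true := by decide +kernel

theorem scanY84224 : scanRows yW labsY allY 84224 256 = true := by decide +kernel

theorem scanY84480 : scanRows yW labsY allY 84480 256 = true := by decide +kernel

theorem scanY84736 : scanRows yW labsY allY 84736 256 = true := by decide +kernel

theorem scanY84992 : scanRows yW labsY allY 84992 256 = true := by decide +kernel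

theorem scanY85248 : scanRows yW labsY allY 85248 256 = true := by decide +kernel

theorem scanY85504 : scanRows yW labsY allY 85504 256 = true := by decide +kernel

theorem scanY85760 : scanRows yW labsY allY 85760 256 = true := by decide +kernel

theorem scanY86016 : scanRows yW labsY allY 86016 256 = true := by decide +kernel

theorem scanY86272 : scanRows yW labsY allY 86272 256 = true := by decide +kernel

theorem scanY86528 : scanRows yW labsY allY 86528 256 = true := by decide +kernel

theorem scanY86784 : scanRows yW labsY allY 86784 256 = true := by decide +kernel

theorem scanY87040 : scanRows yW labsY allY 87040 256 = true := by decide +kernel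

theorem scanY87296 : scanRows yW labsY allY 87296 256 = true := by decide +kernel

theorem scanY87552 : scanRows yW labsY allY 87552 256 = true := by decide +kernel

theorem scanY87808 : scanRows yW labsY allY 87808 256 = true := by decide +kernel

theorem scanY88064 : scanRows yW labsY allY 88064 256 = true := by decide +kernel

theorem scanY88320 : scanRows yW labsY allY 88320 256 = true := by decide +kernel

theorem scanY88576 : scanRows yW labsY allY 88576 256 = true := by decide +kernel

theorem scanY88832 : scanRows yW labsY allY 88832 256 = true := by decide +kernel

theorem scanY89088 : scanRows yW labsY allY 89088 256 = true := by decide +kernel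

theorem scanY89344 : scanRows yW labsY allY 89344 256 = true := by decide +kernel

theorem scanY89600 : scanRows yW labsY allY 89600 256 = true := by decide +kernel

theorem scanY89856 : scanRows yW labsY allY 89856 256 = true := by decide +kernel

theorem scanY90112 : scanRows yW labsY allY 90112 256 = true := by decide +kernel

theorem scanY90368 : scanRows yW labsY allY 90368 256 = true := by decide +kernel

theorem scanY90624 : scanRows yW labsY allY 90624 256 = true := by decide +kernel

theorem scanY90880 : scanRows yW labsY allY 90880 256 = true := by decide +kernel

theorem scanY91136 : scanRows yW labsY allY 91136 256 = true := by decide +kernel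

theorem scanY91392 : scanRows yW labsY allY 91392 256 = true := by decide +kernel

theorem scanY91648 : scanRows yW labsY allY 91648 256 = true := by decide +kernel

theorem scanY91904 : scanRows yW labsY allY 91904 256 = true := by decide +kernel

theorem scanY92160 : scanRows yW labsY allY 92160 256 = true := by decide +kernel

theorem scanY92416 : scanRows yW labsY allY 92416 256 = true := by decide +kernel

theorem scanY92672 : scanRows yW labsY allY 92672 256 = true := by decide +kernel

theorem scanY92928 : scanRows yW labsY allY 92928 256 = true := by decide +kernel

theorem scanY93184 : scanRows yW labsY allY 93184 256 = true := by decide +kernel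

theorem scanY93440 : scanRows yW labsY allY 93440 256 = true := by decide +kernel

theorem scanY93696 : scanRows yW labsY allY 93696 256 = true := by decide +kernel

theorem scanY93952 : scanRows yW labsY allY 93952 256 = true := by decide +kernel

theorem scanY94208 : scanRows yW labsY allY 94208 256 = true := by decide +kernel

theorem scanY94464 : scanRows yW labsY allY 94464 256 = true := by decide +kernel

theorem scanY94720 : scanRows yW labsY allY 94720 256 = true := by decide +kernel

theorem scanY94976 : scanRows yW labsY allY 94976 256 = true := by decide +kernel

theorem scanY95232 : scanRows yW labsY allY 95232 256 = true := by decide +kernel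

theorem scanY95488 : scanRows yW labsY allY 95488 256 = true := by decide +kernel

theorem scanY95744 : scanRows yW labsY allY 95744 256 = true := by decide +kernel

theorem scanY96000 : scanRows yW labsY allY 96000 256 = true := by decide +kernel

theorem scanY96256 : scanRows yW labsY allY 96256 256 = true := by decide +kernel

theorem scanY96512 : scanRows yW labsY allY 96512 256 = true := by decide +kernel

theorem scanY96768 : scanRows yW labsY allY 96768 256 = true := by decide +kernel

theorem scanY97024 : scanRows yW labsY allY 97024 256 = true := by decide +kernel

theorem scanY97280 : scanRows yW labsY allY 97280 256 = true := by decide +kernel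

theorem scanY97536 : scanRows yW labsY allY 97536 256 = true := by decide +kernel

theorem scanY97792 : scanRows yW labsY allY 97792 256 = true := by decide +kernel

theorem scanY98048 : scanRows yW labsY allY 98048 256 = true := by decide +kernel

theorem scanYUpTo3 (h : ∀ i < 73728, (fails yW i labsY i || memNat i allY) = true) :
    ∀ i < 98304, (fails yW i labsY i || memNat i allY) = true :=
  scan_add 98048 256 (scan_add 97792 256 (scan_add 97536 256 (scan_add 97280 256 (scan_add 97024 256 (scan_add 96768 256 (scan_add 96512 256 (scan_add 96256 256 (scan_add 96000 256 (scan_add 95744 256 (scan_add 95488 256 (scan_add 95232 256 (scan_add 94976 256 (scan_add 94720 256 (scan_add 94464 256 (scan_add 94208 256 (scan_add 93952 256 (scan_add 93696 256 (scan_add 93440 256 (scan_add 93184 256 (scan_add 92928 256 (scan_add 92672 256 (scan_add 92416 256 (scan_add 92160 256 (scan_add 91904 256 (scan_add 91648 256 (scan_add 91392 256 (scan_add 91136 256 (scan_add 90880 256 (scan_add 90624 256 (scan_add 90368 256 (scan_add 90112 256 (scan_add 89856 256 (scan_add 89600 256 (scan_add 89344 256 (scan_add 89088 256 (scan_add 88832 256 (scan_add 88576 256 (scan_add 88320 256 (scan_add 88064 256 (scan_add 87808 256 (scan_add 87552 256 (scan_add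 87296 256 (scan_add 87040 256 (scan_add 86784 256 (scan_add 86528 256 (scan_add 86272 256 (scan_add 86016 256 (scan_add 85760 256 (scan_add 85504 256 (scan_add 85248 256 (scan_add 84992 256 (scan_add 84736 256 (scan_add 84480 256 (scan_add 84224 256 (scan_add 83968 256 (scan_add 83712 256 (scan_add 83456 256 (scan_add 83200 256 (scan_add 82944 256 (scan_add 82688 256 (scan_add 82432 256 (scan_add 82176 256 (scan_add 81920 256 (scan_add 81664 256 (scan_add 81408 256 (scan_add 81152 256 (scan_add 80896 256 (scan_add 80640 256 (scan_add 80384 256 (scan_add 80128 256 (scan_add 79872 256 (scan_add 79616 256 (scan_add 79360 256 (scan_add 79104 256 (scan_add 78848 256 (scan_add 78592 256 (scan_add 78336 256 (scan_add 78080 256 (scan_add 77824 256 (scan_add 77568 256 (scan_add 77312 256 (scan_add 77056 256 (scan_add 76800 256 (scan_add 76544 256 (scan_add 76288 256 (scan_add 76032 256 (scan_add 75776 256 (scan_add 75520 256 (scan_add 75264 256 (scan_add 75008 256 (scan_add 74752 256 (scan_add 74496 256 (scan_add 74240 256 (scan_add 73984 256 (scan_add 73728 256 (h) scanY73728) scanY73984) scanY74240) scanY74496) scanY74752) scanY75008) scanY75264) scanY75520) scanY75776) scanY76032) scanY76288) scanY76544) scanY76800) scanY77056) scanY77312)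 scanY77568) scanY77824) scanY78080) scanY78336) scanY78592) scanY78848) scanY79104) scanY79360) scanY79616) scanY79872) scanY80128) scanY80384) scanY80640) scanY80896) scanY81152) scanY81408) scanY81664) scanY81920) scanY82176) scanY82432) scanY82688) scanY82944) scanY83200) scanY83456) scanY83712) scanY83968) scanY84224) scanY84480) scanY84736) scanY84992) scanY85248) scanY85504) scanY85760) scanY86016) scanY86272) scanY86528) scanY86784) scanY87040) scanY87296) scanY87552) scanY87808) scanY88064) scanY88320) scanY88576) scanY88832) scanY89088) scanY89344) scanY89600) scanY89856) scanY90112) scanY90368) scanY90624) scanY90880) scanY91136) scanY91392) scanY91648) scanY91904) scanY92160) scanY92416) scanY92672) scanY92928) scanY93184) scanY93440) scanY93696) scanY93952) scanY94208) scanY94464) scanY94720) scanY94976) scanY95232) scanY95488) scanY95744) scanY96000) scanY96256) scanY96512) scanY96768) scanY97024) scanY97280) scanY97536) scanY97792) scanY98048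

end Cfsg.Agent.ONOut
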