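import Cfsg.Agent.Lib.ONOut.Words

/-!
# A part of the scan
-/

set_option autoImplicit false
set_option Elab.async false
set_option maxHeartbeats 0
set_option maxRecDepth 100000

noncomputable section

namespace Cfsg.Agent.ONOut

open Cfsg.Spor Cfsg.Agent.InvCoset Cfsg.Agent.ONGroup

theorem scanY98304 : scanRows yW labsY allY 98304 256 = true := by decide +kernel

theorem scanY98560 : scanRows yW labsY allY 98560 256 = true := by decide +kernel

theorem scanY98816 : scanRows yW labsY allY 98816 256 = true := by decide +kernel

theorem scanY99072 : scanRows yW labsY allY 99072 256 = true := by decide +kernel

theorem scanY99328 : scanRows yW labsY allY 99328 256 = true := by decide +kernel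

theorem scanY99584 : scanRows yW labsY allY 99584 256 = true := by decide +kernel

theorem scanY99840 : scanRows yW labsY allY 99840 256 = true := by decide +kernel

theorem scanY100096 : scanRows yW labsY allY 100096 256 = true := by decide +kernel

theorem scanY100352 : scanRows yW labsY allY 100352 256 = true := by decide +kernel

theorem scanY100608 : scanRows yW labsY allY 100608 256 = true := by decide +kernel

theorem scanY100864 : scanRows yW labsY allY 100864 256 = true := by decide +kernel

theorem scanY101120 : scanRows yW labsY allY 101120 256 = true := by decide +kernel

theorem scanY101376 : scanRows yW labsY allY 101376 256 = true := by decide +kernel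

theorem scanY101632 : scanRows yW labsY allY 101632 256 = true := by decide +kernel

theorem scanY101888 : scanRows yW labsY allY 101888 256 = true := by decide +kernel

theorem scanY102144 : scanRows yW labsY allY 102144 256 = true := by decide +kernel

theorem scanY102400 : scanRows yW labsY allY 102400 256 = true := by decide +kernel

theorem scanY102656 : scanRows yW labsY allY 102656 256 = true := by decide +kernel

theorem scanY102912 : scanRows yW labsY allY 102912 256 = true := by decide +kernel

theorem scanY103168 : scanRows yW labsY allY 103168 256 = true := by decide +kernel

theorem scanY103424 : scanRows yW labsY allY 103424 256 = true := by decide +kernel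

theorem scanY103680 : scanRows yW labsY allY 103680 256 = true := by decide +kernel

theorem scanY103936 : scanRows yW labsY allY 103936 256 = true := by decide +kernel

theorem scanY104192 : scanRows yW labsY allY 104192 256 = true := by decide +kernel

theorem scanY104448 : scanRows yW labsY allY 104448 256 = true := by decide +kernel

theorem scanY104704 : scanRows yW labsY allY 104704 256 = true := by decide +kernel

theorem scanY104960 : scanRows yW labsY allY 104960 256 = true := by decide +kernel

theorem scanY105216 : scanRows yW labsY allY 105216 256 = true := by decide +kernel

theorem scanY105472 : scanRows yW labsY allY 105472 256 = true := by decide +kernel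

theorem scanY105728 : scanRows yW labsY allY 105728 256 = true := by decide +kernel

theorem scanY105984 : scanRows yW labsY allY 105984 256 = true := by decide +kernel

theorem scanY106240 : scanRows yW labsY allY 106240 256 = true := by decide +kernel

theorem scanY106496 : scanRows yW labsY allY 106496 256 = true := by decide +kernel

theorem scanY106752 : scanRows yW labsY allY 106752 256 = true := by decide +kernel

theorem scanY107008 : scanRows yW labsY allY 107008 256 = true := by decide +kernel

theorem scanY107264 : scanRows yW labsY allY 107264 256 = true := by decide +kernel

theorem scanY107520 : scanRows yW labsY allY 107520 256 = true := by decide +kernel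

theorem scanY107776 : scanRows yW labsY allY 107776 256 = true := by decide +kernel

theorem scanY108032 : scanRows yW labsY allY 108032 256 = true := by decide +kernel

theorem scanY108288 : scanRows yW labsY allY 108288 256 = true := by decide +kernel

theorem scanY108544 : scanRows yW labsY allY 108544 256 = true := by decide +kernel

theorem scanY108800 : scanRows yW labsY allY 108800 256 = true := by decide +kernel

theorem scanY109056 : scanRows yW labsY allY 109056 256 = true := by decide +kernel

theorem scanY109312 : scanRows yW labsY allY 109312 256 = true := by decide +kernel

theorem scanY109568 : scanRows yW labsY allY 109568 256 = true := by decide +kernel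

theorem scanY109824 : scanRows yW labsY allY 109824 256 = true := by decide +kernel

theorem scanY110080 : scanRows yW labsY allY 110080 256 = true := by decide +kernel

theorem scanY110336 : scanRows yW labsY allY 110336 256 = true := by decide +kernel

theorem scanY110592 : scanRows yW labsY allY 110592 256 = true := by decide +kernel

theorem scanY110848 : scanRows yW labsY allY 110848 256 = true := by decide +kernel

theorem scanY111104 : scanRows yW labsY allY 111104 256 = true := by decide +kernel

theorem scanY111360 : scanRows yW labsY allY 111360 256 = true := by decide +kernel

theorem scanY111616 : scanRows yW labsY allY 111616 256 = true := by decide +kernel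

theorem scanY111872 : scanRows yW labsY allY 111872 256 = true := by decide +kernel

theorem scanY112128 : scanRows yW labsY allY 112128 256 = true := by decide +kernel

theorem scanY112384 : scanRows yW labsY allY 112384 256 = true := by decide +kernel

theorem scanY112640 : scanRows yW labsY allY 112640 256 = true := by decide +kernel

theorem scanY112896 : scanRows yW labsY allY 112896 256 = true := by decide +kernel

theorem scanY113152 : scanRows yW labsY allY 113152 256 = true := by decide +kernel

theorem scanY113408 : scanRows yW labsY allY 113408 256 = true := by decide +kernel

theorem scanY113664 : scanRows yW labsY allY 113664 256 = true := by decide +kernel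

theorem scanY113920 : scanRows yW labsY allY 113920 256 = true := by decide +kernel

theorem scanY114176 : scanRows yW labsY allY 114176 256 = true := by decide +kernel

theorem scanY114432 : scanRows yW labsY allY 114432 256 = true := by decide +kernel

theorem scanY114688 : scanRows yW labsY allY 114688 256 = true := by decide +kernel

theorem scanY114944 : scanRows yW labsY allY 114944 256 = true := by decide +kernel

theorem scanY115200 : scanRows yW labsY allY 115200 256 = true := by decide +kernel

theorem scanY115456 : scanRows yW labsY allY 115456 256 = true := by decide +kernel

theorem scanY115712 : scanRows yW labsY allY 115712 256 = true := by decide +kernel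

theorem scanY115968 : scanRows yW labsY allY 115968 256 = true := by decide +kernel

theorem scanY116224 : scanRows yW labsY allY 116224 256 = true := by decide +kernel

theorem scanY116480 : scanRows yW labsY allY 116480 256 = true := by decide +kernel

theorem scanY116736 : scanRows yW labsY allY 116736 256 = true := by decide +kernel

theorem scanY116992 : scanRows yW labsY allY 116992 256 = true := by decide +kernel

theorem scanY117248 : scanRows yW labsY allY 117248 256 = true := by decide +kernel

theorem scanY117504 : scanRows yW labsY allY 117504 256 = true := by decide +kernel

theorem scanY117760 : scanRows yW labsY allY 117760 256 = true := by decide +kernel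

theorem scanY118016 : scanRows yW labsY allY 118016 256 = true := by decide +kernel

theorem scanY118272 : scanRows yW labsY allY 118272 256 = true := by decide +kernel

theorem scanY118528 : scanRows yW labsY allY 118528 256 = true := by decide +kernel

theorem scanY118784 : scanRows yW labsY allY 118784 256 = true := by decide +kernel

theorem scanY119040 : scanRows yW labsY allY 119040 256 = true := by decide +kernel

theorem scanY119296 : scanRows yW labsY allY 119296 256 = true := by decide +kernel

theorem scanY119552 : scanRows yW labsY allY 119552 256 = true := by decide +kernel

theorem scanY119808 : scanRows yW labsY allY 119808 256 = true := by decide +kernel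

theorem scanY120064 : scanRows yW labsY allY 120064 256 = true := by decide +kernel

theorem scanY120320 : scanRows yW labsY allY 120320 256 = true := by decide +kernel

theorem scanY120576 : scanRows yW labsY allY 120576 256 = true := by decide +kernel

theorem scanY120832 : scanRows yW labsY allY 120832 256 = true := by decide +kernel

theorem scanY121088 : scanRows yW labsY allY 121088 256 = true := by decide +kernel

theorem scanY121344 : scanRows yW labsY allY 121344 256 = true := by decide +kernel

theorem scanY121600 : scanRows yW labsY allY 121600 256 = true := by decide +kernel

theorem scanY121856 : scanRows yW labsY allY 121856 256 = true := by decide +kernel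

theorem scanY122112 : scanRows yW labsY allY 122112 256 = true := by decide +kernel

theorem scanY122368 : scanRows yW labsY allY 122368 256 = true := by decide +kernel

theorem scanY122624 : scanRows yW labsY allY 122624 136 = true := by decide +kernel

theorem scanYUpTo4 (h : ∀ i < 98304, (fails yW i labsY i || memNat i allY) = true) :
    ∀ i < 122760, (fails yW i labsY i || memNat i allY) = true :=
  scan_add 122624 136 (scan_add 122368 256 (scan_add 122112 256 (scan_add 121856 256 (scan_add 121600 256 (scan_add 121344 256 (scan_add 121088 256 (scan_add 120832 256 (scan_add 120576 256 (scan_add 120320 256 (scan_add 120064 256 (scan_add 119808 256 (scan_add 119552 256 (scan_add 119296 256 (scan_add 119040 256 (scan_add 118784 256 (scan_add 118528 256 (scan_add 118272 256 (scan_add 118016 256 (scan_add 117760 256 (scan_add 117504 256 (scan_add 117248 256 (scan_add 116992 256 (scan_add 116736 256 (scan_add 116480 256 (scan_add 116224 256 (scan_add 115968 256 (scan_add 115712 256 (scan_add 115456 256 (scan_add 115200 256 (scan_add 114944 256 (scan_add 114688 256 (scan_add 114432 256 (scan_add 114176 256 (scan_add 113920 256 (scan_add 113664 256 (scan_add 113408 256 (scan_add 113152 256 (scan_add 112896 256 (scan_add 112640 256 (scan_add 112384 256 (scan_add 112128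 256 (scan_add 111872 256 (scan_add 111616 256 (scan_add 111360 256 (scan_add 111104 256 (scan_add 110848 256 (scan_add 110592 256 (scan_add 110336 256 (scan_add 110080 256 (scan_add 109824 256 (scan_add 109568 256 (scan_add 109312 256 (scan_add 109056 256 (scan_add 108800 256 (scan_add 108544 256 (scan_add 108288 256 (scan_add 108032 256 (scan_add 107776 256 (scan_add 107520 256 (scan_add 107264 256 (scan_add 107008 256 (scan_add 106752 256 (scan_add 106496 256 (scan_add 106240 256 (scan_add 105984 256 (scan_add 105728 256 (scan_add 105472 256 (scan_add 105216 256 (scan_add 104960 256 (scan_add 104704 256 (scan_add 104448 256 (scan_add 104192 256 (scan_add 103936 256 (scan_add 103680 256 (scan_add 103424 256 (scan_add 103168 256 (scan_add 102912 256 (scan_add 102656 256 (scan_add 102400 256 (scan_add 102144 256 (scan_add 101888 256 (scan_add 101632 256 (scan_add 101376 256 (scan_add 101120 256 (scan_add 100864 256 (scan_add 100608 256 (scan_add 100352 256 (scan_add 100096 256 (scan_add 99840 256 (scan_add 99584 256 (scan_add 99328 256 (scan_add 99072 256 (scan_add 98816 256 (scan_add 98560 256 (scan_add 98304 256 (h) scanY98304) scanY98560) scanY98816) scanY99072) scanY99328) scanY99584) scanY99840) scanY100096) scanY100352) scanY100608) scanY100864) scanY101120) scanY101376)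 scanY101632) scanY101888) scanY102144) scanY102400) scanY102656) scanY102912) scanY103168) scanY103424) scanY103680) scanY103936) scanY104192) scanY104448) scanY104704) scanY104960) scanY105216) scanY105472) scanY105728) scanY105984) scanY106240) scanY106496) scanY106752) scanY107008) scanY107264) scanY107520) scanY107776) scanY108032) scanY108288) scanY108544) scanY108800) scanY109056) scanY109312) scanY109568) scanY109824) scanY110080) scanY110336) scanY110592) scanY110848) scanY111104) scanY111360) scanY111616) scanY111872) scanY112128) scanY112384) scanY112640) scanY112896) scanY113152) scanY113408) scanY113664) scanY113920) scanY114176) scanY114432) scanY114688) scanY114944) scanY115200) scanY115456) scanY115712) scanY115968) scanY116224) scanY116480) scanY116736) scanY116992) scanY117248) scanY117504) scanY117760) scanY118016) scanY118272) scanY118528) scanY118784) scanY119040) scanY119296) scanY119552) scanY119808) scanY120064) scanY120320) scanY120576) scanY120832) scanY121088) scanY121344) scanY121600) scanY121856) scanY122112) scanY122368) scanY122624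

end Cfsg.Agent.ONOut
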