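import Cfsg.Agent.Lib.ONOut.ScanX0
import Cfsg.Agent.Lib.ONOut.ScanX1
import Cfsg.Agent.Lib.ONOut.ScanX2
import Cfsg.Agent.Lib.ONOut.ScanY0
import Cfsg.Agent.Lib.ONOut.ScanY1
import Cfsg.Agent.Lib.ONOut.ScanY2
import Cfsg.Agent.Lib.ONOut.ScanY3
import Cfsg.Agent.Lib.ONOut.ScanY4
import Cfsg.Agent.Lib.ONOut.Segments

/-!
# The scans and other checks
-/

set_option autoImplicit false
set_option Elab.async false
set_option maxHeartbeats 0
set_option maxRecDepth 100000

noncomputable section

namespace Cfsg.Agent.ONOut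

open Cfsg.Spor Cfsg.Agent.InvCoset Cfsg.Agent.ONGroup

/-- Six tokens. -/
def toks (a b c : List ℕ) : List (List ℕ) :=
  [a, invW ONTable.iv a, b, invW ONTable.iv b, c, invW ONTable.iv c]

def spell (a b c : List ℕ) (r : List ℕ) : List (List ℕ) := r.map (lnth (toks a b c))

/-- The image of a letter. -/
def imLetter (k : ℕ) : List ℕ :=
  match k with
  | 7 => invW ONTable.iv (spell (invW ONTable.iv xW) yW z1W (lnth exprs 6)).flatten
  | _ => (spell (invW ONTable.iv xW) yW z1W (lnth exprs k)).flatten

theorem labsX_eq : labsX = cycleLabs xW 30 0 := by decide +kernel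

theorem allX_eq : allX = okX ++ badX.map Prod.fst := by decide +kernel

theorem badX_ok : badX.all (badChk xW 2 6) = true := by decide +kernel

theorem scanX : ∀ r < 122760, (fails xW r (cycleLabs xW 30 0) r || memNat r (okX ++ badX.map Prod.fst)) = true :=
  allX_eq ▸ labsX_eq ▸ (scanXUpTo2 (scanXUpTo1 (scanXUpTo0 (scan_zero xW labsX allX))))

theorem labsY_eq : labsY = cycleLabs yW 14 0 := by decide +kernel

theorem allY_eq : allY = okY ++ badY.map Prod.fst := by decide +kernel

theorem badY_ok : badY.all (badChk yW 1 5) = true := by decide +kernel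

theorem scanY : ∀ r < 122760, (fails yW r (cycleLabs yW 14 0) r || memNat r (okY ++ badY.map Prod.fst)) = true :=
  allY_eq ▸ labsY_eq ▸ (scanYUpTo4 (scanYUpTo3 (scanYUpTo2 (scanYUpTo1 (scanYUpTo0 (scan_zero yW labsY allY))))))

theorem centX_chk : centChk xW hXW 2 6 okX ((List.range 31).map fun t => (List.replicate t xW).flatten) = true := by
  decide +kernel

theorem centY_chk : centChk yW hYW 1 5 okY cyW = true := by decide +kernel

theorem deltaX_ok : segTriv (xW.map (imLetter) ++ [invW ONTable.iv (invW ONTable.iv xW)]) = true := by decide +kernel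

theorem deltaY_ok : segTriv (yW.map (imLetter) ++ [invW ONTable.iv yW]) = true := by decide +kernel

theorem deltaZ_ok : segTriv (zW.map (imLetter) ++ [invW ONTable.iv z1W]) = true := by decide +kernel

theorem relPart0 : (((ONTable.W0 ++ ONTable.Wsq).drop 0).take 4).all (fun w => segTriv (w.map imLetter)) = true := by
  decide +kernel

theorem relPart4 : (((ONTable.W0 ++ ONTable.Wsq).drop 4).take 4).all (fun w => segTriv (w.map imLetter)) = true := by
  decide +kernel

theorem relPart8 : (((ONTable.W0 ++ ONTable.Wsq).drop 8).take 4).all (fun w => segTriv (w.map imLetter)) = true := by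
  decide +kernel

theorem relPart12 : (((ONTable.W0 ++ ONTable.Wsq).drop 12).take 4).all (fun w => segTriv (w.map imLetter)) = true := by
  decide +kernel

theorem relPart16 : (((ONTable.W0 ++ ONTable.Wsq).drop 16).take 4).all (fun w => segTriv (w.map imLetter)) = true := by
  decide +kernel

theorem relPart20 : (((ONTable.W0 ++ ONTable.Wsq).drop 20).take 4).all (fun w => segTriv (w.map imLetter)) = true := by
  decide +kernel

theorem relPart24 : (((ONTable.W0 ++ ONTable.Wsq).drop 24).take 4).all (fun w => segTriv (w.map imLetter)) = true := by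
  decide +kernel

theorem relPart28 : (((ONTable.W0 ++ ONTable.Wsq).drop 28).take 4).all (fun w => segTriv (w.map imLetter)) = true := by
  decide +kernel

theorem relWords_ok : ∀ w ∈ ONTable.W0 ++ ONTable.Wsq, segTriv (w.map imLetter) = true := by
  intro w hw
  rw [show ONTable.W0 ++ ONTable.Wsq = ((ONTable.W0 ++ ONTable.Wsq).drop 0).take 4 ++ ((ONTable.W0 ++ ONTable.Wsq).drop 4).take 4 ++ ((ONTable.W0 ++ ONTable.Wsq).drop 8).take 4 ++ ((ONTable.W0 ++ ONTable.Wsq).drop 12).take 4 ++ ((ONTable.W0 ++ ONTable.Wsq).drop 16).take 4 ++ ((ONTable.W0 ++ ONTable.Wsq).drop 20).take 4 ++ ((ONTable.W0 ++ ONTable.Wsq).drop 24).take 4 ++ ((ONTable.W0 ++ ONTable.Wsq).drop 28).take 4 from rfl] at hw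
  simp only [List.mem_append] at hw
  rcases hw with ((((((hw | hw) | hw) | hw) | hw) | hw) | hw) | hw
  · exact List.all_eq_true.mp relPart0 w hw
  · exact List.all_eq_true.mp relPart4 w hw
  · exact List.all_eq_true.mp relPart8 w hw
  · exact List.all_eq_true.mp relPart12 w hw
  · exact List.all_eq_true.mp relPart16 w hw
  · exact List.all_eq_true.mp relPart20 w hw
  · exact List.all_eq_true.mp relPart24 w hw
  · exact List.all_eq_true.mp relPart28 w hw

end Cfsg.Agent.ONOut
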