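import Cfsg.Agent.Lib.ONOut.Normal
import Cfsg.Agent.Lib.ONOut.AllScan

/-!
# The presented O'Nan group has exactly two classes of automorphisms modulo inner ones
-/

set_option autoImplicit false
set_option linter.all false
set_option maxRecDepth 100000

noncomputable section

namespace Cfsg.Agent.ONOut

open Cfsg.Spor Cfsg.Agent.InvCoset Cfsg.Agent.ONGroup

/-- The element of order 31. -/
def eX : ON := prodE let8 xW

/-- The element of order 15 normalising it. -/
def eY : ON := prodE let8 yW

/-- The third generator. -/
def eZ : ON := prodE let8 zW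

def tokVals (a b c : ON) (k : ℕ) : ON :=
  match k with
  | 0 => a
  | 1 => a⁻¹
  | 2 => b
  | 3 => b⁻¹
  | 4 => c
  | 5 => c⁻¹
  | _ => 1

theorem tok_value {a b c : List ℕ} (ha : inRange 8 a = true) (hb : inRange 8 b = true) (hc : inRange 8 c = true) :
    ∀ k, prodE let8 (lnth (toks a b c) k) = tokVals (prodE let8 a) (prodE let8 b) (prodE let8 c) k
  | 0 => rfl
  | 1 => prodE_inv ha
  | 2 => rfl
  | 3 => prodE_inv hb
  | 4 => rfl
  | 5 => prodE_inv hc
  | _ + 6 => rfl

theorem spell_value {a b c : List ℕ} (ha : inRange 8 a = true) (hb : inRange 8 b = true) (hc : inRange 8 c = true)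
    (r : List ℕ) : prodE let8 (spell a b c r).flatten =
      (r.map (tokVals (prodE let8 a) (prodE let8 b) (prodE let8 c))).prod := by
  rw [prodE_segs, spell, List.map_map]
  exact congrArg List.prod (List.map_congr_left fun k _ => tok_value ha hb hc k)

theorem ranges : inRange 8 xW = true ∧ inRange 8 yW = true ∧ inRange 8 zW = true ∧ inRange 8 z1W = true ∧
    segsIn cyW = true ∧ inRange 8 (invW ONTable.iv xW) = true := by decide +kernel

theorem segsIn_mem : ∀ {l : List (List ℕ)}, segsIn l = true → ∀ w ∈ l, inRange 8 w = true
  | [], _, w, hw => by simp at hw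
  | s :: l, h, w, hw => by
    simp only [segsIn, Bool.and_eq_true] at h
    rcases List.mem_cons.mp hw with rfl | hw
    · exact h.1
    · exact segsIn_mem h.2 w hw

theorem x31 : segTriv (List.replicate 31 xW) = true ∧ segMoves [xW] = true := by decide +kernel

theorem eX_pow : eX ^ 31 = 1 := by rw [eX, ← prodE_power]; exact segTriv_spec x31.1

theorem orderX : orderOf eX = 31 := by
  haveI : Fact (Nat.Prime 31) := ⟨by norm_num⟩
  refine orderOf_eq_prime eX_pow ?_
  have h := segMoves_spec x31.2
  rwa [List.flatten_cons, List.flatten_nil, List.append_nil] at h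

theorem x_inv : eX ^ 30 = prodE let8 (invW ONTable.iv xW) := by
  rw [prodE_inv ranges.1, eq_inv_iff_mul_eq_one, ← eX, ← pow_succ]
  exact eX_pow

theorem conj_ok : segTriv ([invW ONTable.iv yW, xW, yW] ++ List.replicate 10 (invW ONTable.iv xW)) = true := by
  decide +kernel

theorem conjY : eY⁻¹ * eX * eY = eX ^ 10 := by
  have h := segTriv_spec conj_ok
  rw [List.flatten_append, prodE_append, prodE_power, prodE_segs, prodE_inv ranges.1, inv_pow, mul_inv_eq_one] at h
  simpa [List.map_cons, prodE_inv ranges.2.1, eX, eY, mul_assoc] using h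

theorem cent_X (a : ON) (h : Commute a eX) : ∃ s : ℕ, a = eX ^ s := by
  obtain ⟨w, hw, rfl⟩ := centraliser_cases centX_chk badX_ok scanX h
  obtain ⟨t, -, rfl⟩ := List.mem_map.mp hw
  exact ⟨t, prodE_power xW t⟩

theorem cent_Y (a : ON) (h : Commute a eY) : ∃ w ∈ cyW, a = prodE let8 w :=
  centraliser_cases centY_chk badY_ok scanY h

def exprOK (k : ℕ) : Bool := segTriv (spell xW yW zW (lnth exprs k) ++ [invW ONTable.iv [k]])

theorem exprs_ok : ∀ k < 7, exprOK k = true := by decide +kernel

theorem generate (K : Subgroup ON) (hx : eX ∈ K) (hy : eY ∈ K) (hz : eZ ∈ K) : K = ⊤ := by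
  have hg : ∀ k < 7, let8 k ∈ K := by
    intro k hk
    have hr : inRange 8 [k] = true := by simp [inRange, Nat.blt]; omega
    have h := segs_eq hr (exprs_ok k hk)
    rw [spell_value ranges.1 ranges.2.1 ranges.2.2.1] at h
    have h1 : prodE let8 [k] = let8 k := mul_one _
    rw [← h1, ← h]
    refine list_prod_mem fun g hg => ?_
    obtain ⟨t, -, rfl⟩ := List.mem_map.mp hg
    unfold tokVals
    split
    exacts [hx, inv_mem hx, hy, inv_mem hy, hz, inv_mem hz, one_mem K]
  rw [eq_top_iff, ← let8_top, Subgroup.closure_le]
  rintro _ ⟨k, hk, rfl⟩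
  simp only [Set.mem_setOf_eq] at hk
  rcases Nat.lt_or_ge k 7 with h | h
  · exact hg k h
  · obtain rfl : k = 7 := by omega
    exact inv_mem (hg 6 (by decide))

/-- The images of the generators. -/
def imGen (x : ON.Gen) : ON := prodE let8 (imLetter (idx x))

theorem im_range : segsIn ((List.range 8).map imLetter) = true := by decide +kernel

theorem letter_im : ∀ k < 8, letterVal imGen k = prodE let8 (imLetter k) := by
  intro k hk
  interval_cases k
  all_goals first
    | rfl
    | exact (prodE_inv (segsIn_mem im_range _ (List.mem_map.mpr ⟨6, by decide, rfl⟩))).symm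

theorem word_im : ∀ {w : List ℕ}, (∀ y ∈ w, y < 8) →
    prodE (letterVal imGen) w = prodE let8 (w.map imLetter).flatten
  | [], _ => rfl
  | y :: w, h => by
    rw [prodE, List.map_cons, List.flatten_cons, prodE_append, letter_im y (h y List.mem_cons_self),
      word_im fun z hz => h z (List.mem_cons_of_mem _ hz)]

theorem im_sq : ∀ k < 6, segTriv [imLetter k, imLetter k] = true := by decide +kernel

theorem imGen_invol : ∀ x ∈ nodes, imGen x * imGen x = 1 := by
  intro x hx
  have hk : idx x < 6 := by revert hx; cases x <;> decide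
  have h := segTriv_spec (im_sq _ hk)
  rwa [List.flatten_cons, List.flatten_cons, List.flatten_nil, List.append_nil, prodE_append] at h

/-- The endomorphism. -/
def deltaHom : ON →* ON :=
  PresentedGroup.toGroup (relators_of_words imGen imGen_invol fun w hw => by
    rw [word_im (base_range w (List.mem_append_left _ hw))]
    exact segTriv_spec (relWords_ok w hw))

theorem delta_letter : ∀ k < 8, deltaHom (let8 k) = letterVal imGen k := by
  intro k hk
  have hof : ∀ y, deltaHom (gen y) = imGen y := fun y => PresentedGroup.toGroup.of _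
  interval_cases k
  all_goals first
    | exact hof _
    | exact (map_inv deltaHom _).trans (congrArg _ (hof _))

theorem delta_word : ∀ {w : List ℕ}, (∀ y ∈ w, y < 8) →
    deltaHom (prodE let8 w) = prodE let8 (w.map imLetter).flatten
  | [], _ => map_one _
  | y :: w, h => by
    rw [prodE, map_mul, delta_letter y (h y List.mem_cons_self), letter_im y (h y List.mem_cons_self),
      List.map_cons, List.flatten_cons, prodE_append, delta_word fun z hz => h z (List.mem_cons_of_mem _ hz)]

theorem delta_X : deltaHom eX = eX ^ 30 := by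
  rw [eX, delta_word (inRange_spec ranges.1), ← eX, x_inv]
  exact segs_eq ranges.2.2.2.2.2 deltaX_ok

theorem delta_Y : deltaHom eY = eY := by
  rw [eY, delta_word (inRange_spec ranges.2.1)]
  exact segs_eq ranges.2.1 deltaY_ok

theorem delta_Z : deltaHom eZ = prodE let8 z1W := by
  rw [eZ, delta_word (inRange_spec ranges.2.2.1)]
  exact segs_eq ranges.2.2.2.1 deltaZ_ok

theorem delta_bijective : Function.Bijective deltaHom := by
  haveI := simple_ON
  refine Finite.injective_iff_bijective.mp ((MonoidHom.ker_eq_bot_iff _).mp ?_)
  refine (Subgroup.Normal.eq_bot_or_eq_top (H := deltaHom.ker) inferInstance).resolve_right fun h => ?_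
  have h1 : deltaHom eX = 1 := MonoidHom.mem_ker.mp (h ▸ Subgroup.mem_top eX)
  rw [delta_X] at h1
  have h2 := orderOf_dvd_of_pow_eq_one h1
  rw [orderX] at h2
  omega

/-- The outer automorphism. -/
def delta : MulAut ON := MulEquiv.ofBijective deltaHom delta_bijective

/-- A case of the centraliser is excluded or is one of two. -/
def caseOK (b : Bool) (w : List ℕ) : Bool :=
  lbeq w (cond b zW z1W) || segMoves [w, w, w] ||
    segMoves (spell (cond b xW (invW ONTable.iv xW)) yW w relA) ||
    segMoves (spell (cond b xW (invW ONTable.iv xW)) yW w relB)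

theorem cases_true : cyW.all (caseOK true) = true := by decide +kernel

theorem cases_false : cyW.all (caseOK false) = true := by decide +kernel

theorem z_facts : segTriv [zW, zW, zW] = true ∧ segTriv [yW, zW, invW ONTable.iv yW, invW ONTable.iv zW] = true ∧
    segTriv (spell xW yW zW relA) = true ∧ segTriv (spell xW yW zW relB) = true := by decide +kernel

theorem key_cases (α : MulAut ON) (b : Bool) (hX : α eX = prodE let8 (cond b xW (invW ONTable.iv xW)))
    (hY : α eY = eY) : α eZ = prodE let8 (cond b zW z1W) := by
  have hc : Commute (α eZ) eY := by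
    have h := segTriv_spec z_facts.2.1
    simp only [List.flatten_cons, List.flatten_nil, List.append_nil, prodE_append, prodE_inv ranges.2.1,
      prodE_inv ranges.2.2.1] at h
    have h' : eY * eZ * eY⁻¹ * eZ⁻¹ = 1 := by simpa only [eY, eZ, mul_assoc] using h
    rw [mul_inv_eq_one, mul_inv_eq_iff_eq_mul] at h'
    have := congrArg α h'
    rw [map_mul, map_mul, hY] at this
    exact this.symm
  obtain ⟨w, hw, he⟩ := cent_Y _ hc
  have hwr := segsIn_mem ranges.2.2.2.2.1 w hw
  have hxr : inRange 8 (cond b xW (invW ONTable.iv xW)) = true := by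
    cases b
    · exact ranges.2.2.2.2.2
    · exact ranges.1
  have hcase : caseOK b w = true := by
    cases b
    · exact List.all_eq_true.mp cases_false w hw
    · exact List.all_eq_true.mp cases_true w hw
  have hrel : ∀ r : List ℕ, segTriv (spell xW yW zW r) = true →
      prodE let8 (spell (cond b xW (invW ONTable.iv xW)) yW w r).flatten = 1 := by
    intro r hr
    have h := segTriv_spec hr
    rw [spell_value ranges.1 ranges.2.1 ranges.2.2.1] at h
    rw [spell_value hxr ranges.2.1 hwr]
    have h' := congrArg α h
    rw [map_one, map_list_prod, List.map_map] at h'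
    rw [← h']
    refine congrArg List.prod (List.map_congr_left fun k _ => ?_)
    show tokVals _ _ _ k = α (tokVals eX eY eZ k)
    rw [← hX, ← he]
    unfold tokVals
    split <;> simp [hY, eY, map_inv] <;> (try exact hY.symm) <;> (try rw [show α (prodE let8 yW) = prodE let8 yW from hY])
  simp only [caseOK, Bool.or_eq_true] at hcase
  rcases hcase with ((h | h) | h) | h
  · rw [he, lbeq_iff h]
  · refine absurd ?_ (segMoves_spec h)
    have h3 := segTriv_spec z_facts.1
    simp only [List.flatten_cons, List.flatten_nil, List.append_nil, prodE_append] at h3 ⊢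
    rw [← he, eZ, ← map_mul, ← map_mul, h3, map_one]
  · exact absurd (hrel _ z_facts.2.2.1) (segMoves_spec h)
  · exact absurd (hrel _ z_facts.2.2.2) (segMoves_spec h)

theorem not_inner_ok : cyW.all (fun w => segMoves [w, xW, invW ONTable.iv w, xW]) = true := by decide +kernel

theorem card_out : Nat.card (Cfsg.Out ON) = 2 := by
  have hfac : (Nat.card ON).factorization 31 = 1 := by
    rw [card_ON, show (460815505920 : ℕ) = 31 ^ 1 * 14865016320 by norm_num,
      Nat.factorization_mul (by norm_num) (by norm_num), Finsupp.add_apply,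
      (show Nat.Prime 31 by norm_num).factorization_pow, Finsupp.single_eq_same,
      Nat.factorization_eq_zero_of_not_dvd (by norm_num : ¬ 31 ∣ 14865016320)]
  refine card_out_two hfac orderX conjY cent_X generate delta delta_X delta_Y delta_Z ?_ ?_
  · intro α m hm hX hY
    rcases hm with rfl | rfl
    · exact Or.inl ⟨rfl, key_cases α true (by rw [hX, pow_one]; rfl) hY⟩
    · exact Or.inr ⟨rfl, key_cases α false (by rw [hX, x_inv]; rfl) hY⟩
  · intro c hc he
    obtain ⟨w, hw, rfl⟩ := cent_Y c hc
    refine segMoves_spec (List.all_eq_true.mp not_inner_ok w hw) ?_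
    have hwr := segsIn_mem ranges.2.2.2.2.1 w hw
    simp only [List.flatten_cons, List.flatten_nil, List.append_nil, prodE_append, prodE_inv hwr]
    rw [← mul_assoc, ← mul_assoc, ← eX, he, ← pow_succ]
    exact eX_pow

end Cfsg.Agent.ONOut
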