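import Mathlib
import Cfsg.Prelude.Def_KGroupFacts

/-!
# Two outer classes from a self-centralising element of order 31
-/

set_option autoImplicit false
set_option linter.all false

noncomputable section

namespace Cfsg.Agent.ONOut

universe u

variable {G : Type u} [Group G] [Finite G]

theorem square_or_not : ∀ m : Fin 31, m.val ≠ 0 → ∃ j : Fin 15, m.val * 28 ^ j.val % 31 = 1 ∨ m.val * 28 ^ j.val % 31 = 30 := by
  decide +kernel

theorem shift31 : ∀ s : Fin 31, ∃ t : Fin 31, (10 * t.val + s.val) % 31 = t.val := by decide +kernel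

theorem normal_form {X y : G} (hfac : (Nat.card G).factorization 31 = 1) (oX : orderOf X = 31)
    (hy : y⁻¹ * X * y = X ^ 10) (centX : ∀ a, Commute a X → ∃ s : ℕ, a = X ^ s) (φ : MulAut G) :
    ∃ g : G, ∃ m : ℕ, (m = 1 ∨ m = 30) ∧ (MulAut.conj g * φ) X = X ^ m ∧ (MulAut.conj g * φ) y = y := by
  haveI : Fact (Nat.Prime 31) := ⟨by norm_num⟩
  have hox : orderOf (φ X) = 31 := by rw [MulEquiv.orderOf_eq, oX]
  let A : Sylow 31 G := Sylow.ofCard (Subgroup.zpowers (φ X)) (by rw [Nat.card_zpowers, hox, hfac]; rfl)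
  let B : Sylow 31 G := Sylow.ofCard (Subgroup.zpowers X) (by rw [Nat.card_zpowers, oX, hfac]; rfl)
  obtain ⟨h, e⟩ := MulAction.exists_smul_eq G A B
  set α : MulAut G := MulAut.conj h * φ with hα
  have hm : α X ∈ Subgroup.zpowers X := by
    have h' : α X ∈ ((h • A : Sylow 31 G) : Subgroup G) := by
      rw [Sylow.coe_subgroup_smul, Subgroup.mem_smul_pointwise_iff_exists]
      exact ⟨φ X, Subgroup.mem_zpowers _, rfl⟩
    rwa [e] at h'
  obtain ⟨m₀, hm₀⟩ := mem_powers_iff_mem_zpowers.2 hm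
  replace hm₀ : X ^ m₀ = α X := hm₀
  set m := m₀ % 31 with hmdef
  have hαX : α X = X ^ m := by
    rw [← hm₀, hmdef]
    exact (pow_eq_pow_iff_modEq.2 (by rw [oX]; exact Nat.mod_modEq _ _)).symm
  have hm0 : m ≠ 0 := by
    intro h0
    rw [h0, pow_zero, MulEquiv.map_eq_one_iff] at hαX
    rw [hαX, orderOf_one] at oX
    norm_num at oX
  have hyk : ∀ k : ℕ, y⁻¹ * X ^ k * y = X ^ (10 * k) := fun k => by
    rw [pow_mul, ← hy]
    calc y⁻¹ * X ^ k * y = y⁻¹ * X ^ k * (y⁻¹)⁻¹ := by rw [inv_inv]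
      _ = (y⁻¹ * X * (y⁻¹)⁻¹) ^ k := conj_pow.symm
      _ = _ := by rw [inv_inv]
  have hcomm : Commute (α y * y⁻¹) X := by
    have e1 : ∀ k : ℕ, (α y)⁻¹ * (X ^ m) ^ k * α y = X ^ (10 * (m * k)) := fun k => by
      rw [← hαX, ← map_pow, ← map_inv, ← map_mul, ← map_mul, hyk, map_pow, hαX, ← pow_mul]
      congr 1; ring
    obtain ⟨n, hn⟩ : ∃ n : ℕ, (X ^ m) ^ n = X := by
      have hcp : Nat.Coprime (orderOf X) m := by
        rw [oX]
        exact (Nat.Prime.coprime_iff_not_dvd (by norm_num)).2 fun hd' =>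
          hm0 (Nat.eq_zero_of_dvd_of_lt hd' (Nat.mod_lt _ (by norm_num)))
      exact exists_pow_eq_self_of_coprime hcp.symm
    have e3 : (α y)⁻¹ * X * α y = y⁻¹ * X * y := by
      have e2 := e1 n
      rw [mul_comm 10 (m * n), pow_mul, pow_mul, hn] at e2
      rw [e2, hy]
    calc α y * y⁻¹ * X = α y * (y⁻¹ * X * y) * y⁻¹ := by group
      _ = α y * ((α y)⁻¹ * X * α y) * y⁻¹ := by rw [e3]
      _ = X * (α y * y⁻¹) := by group
  obtain ⟨s, hs⟩ := centX _ hcomm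
  have hαy : α y = X ^ s * y := by rw [← hs]; group
  have hXy : ∀ k : ℕ, X ^ k * y = y * X ^ (10 * k) := fun k => by rw [← hyk k]; group
  obtain ⟨t, ht⟩ := shift31 ⟨10 * s % 31, Nat.mod_lt _ (by norm_num)⟩
  simp only at ht
  obtain ⟨j, hj⟩ := square_or_not ⟨m, Nat.mod_lt _ (by norm_num)⟩ hm0
  have hyj : ∀ (i k : ℕ), y ^ i * X ^ k * (y ^ i)⁻¹ = X ^ (k * 28 ^ i) := by
    intro i
    induction i with
    | zero => intro k; simp
    | succ i ih =>
      intro k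
      have h1 : y * X ^ k * y⁻¹ = X ^ (28 * k) := by
        rw [mul_inv_eq_iff_eq_mul, hXy, mul_right_inj, pow_eq_pow_iff_modEq, oX, Nat.ModEq]
        omega
      rw [pow_succ y i, show y ^ i * y * X ^ k * (y ^ i * y)⁻¹ = y ^ i * (y * X ^ k * y⁻¹) * (y ^ i)⁻¹ by group,
        h1, ih]
      congr 1; ring
  refine ⟨y ^ j.val * X ^ t.val * h, m * 28 ^ j.val % 31, hj, ?_, ?_⟩
  · show y ^ j.val * X ^ t.val * h * φ X * (y ^ j.val * X ^ t.val * h)⁻¹ = _
    rw [show y ^ j.val * X ^ t.val * h * φ X * (y ^ j.val * X ^ t.val * h)⁻¹ =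
      y ^ j.val * (X ^ t.val * (h * φ X * h⁻¹) * (X ^ t.val)⁻¹) * (y ^ j.val)⁻¹ by group,
      show h * φ X * h⁻¹ = X ^ m from hαX, ((Commute.refl X).pow_pow t.val m).eq, mul_inv_cancel_right, hyj,
      pow_eq_pow_iff_modEq, oX]
    exact (Nat.mod_modEq _ _).symm
  · show y ^ j.val * X ^ t.val * h * φ y * (y ^ j.val * X ^ t.val * h)⁻¹ = _
    have h1 : X ^ t.val * (h * φ y * h⁻¹) * (X ^ t.val)⁻¹ = y := by
      rw [show h * φ y * h⁻¹ = X ^ s * y from hαy, ← mul_assoc, ← pow_add, mul_inv_eq_iff_eq_mul, hXy,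
        mul_right_inj, pow_eq_pow_iff_modEq, oX, Nat.ModEq]
      omega
    rw [show y ^ j.val * X ^ t.val * h * φ y * (y ^ j.val * X ^ t.val * h)⁻¹ =
      y ^ j.val * (X ^ t.val * (h * φ y * h⁻¹) * (X ^ t.val)⁻¹) * (y ^ j.val)⁻¹ by group, h1,
      ((Commute.refl y).pow_left j.val).eq, mul_inv_cancel_right]

theorem card_out_two {X y z z' : G} (hfac : (Nat.card G).factorization 31 = 1) (oX : orderOf X = 31)
    (hy : y⁻¹ * X * y = X ^ 10) (centX : ∀ a, Commute a X → ∃ s : ℕ, a = X ^ s)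
    (hgen : ∀ K : Subgroup G, X ∈ K → y ∈ K → z ∈ K → K = ⊤) (δ : MulAut G)
    (dX : δ X = X ^ 30) (dy : δ y = y) (dz : δ z = z')
    (key : ∀ (α : MulAut G) (m : ℕ), (m = 1 ∨ m = 30) → α X = X ^ m → α y = y →
      (m = 1 ∧ α z = z) ∨ (m = 30 ∧ α z = z'))
    (hnot : ∀ c, Commute c y → c * X * c⁻¹ ≠ X ^ 30) : Nat.card (Cfsg.Out G) = 2 := by
  have same : ∀ α β : MulAut G, α X = β X → α y = β y → α z = β z → α = β := by
    intro α β h1 h2 h3
    let F : Subgroup G :=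
      { carrier := {x | α x = β x}
        one_mem' := by simp
        mul_mem' := fun {a b} (ha : _ = _) (hb : _ = _) => by show α (a * b) = β (a * b); rw [map_mul, map_mul, ha, hb]
        inv_mem' := fun {a} (ha : _ = _) => by show α a⁻¹ = β a⁻¹; rw [map_inv, map_inv, ha] }
    have hF := hgen F h1 h2 h3
    exact MulEquiv.ext fun x => (hF ▸ Subgroup.mem_top x : x ∈ F)
  have hδ : δ ∉ Cfsg.Inn G := by
    rintro ⟨c, hc⟩
    have h1 : c * X * c⁻¹ = X ^ 30 := by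
      rw [← dX, ← hc]; rfl
    have h2 : c * y * c⁻¹ = y := by
      have := dy
      rw [← hc] at this
      exact this
    exact hnot c (mul_inv_eq_iff_eq_mul.mp h2) h1
  have hcase : ∀ φ : MulAut G, φ ∈ Cfsg.Inn G ∨ ∃ g : G, MulAut.conj g * φ = δ := by
    intro φ
    obtain ⟨g, m, hm, hX, hY⟩ := normal_form hfac oX hy centX φ
    rcases key _ m hm hX hY with ⟨rfl, hz⟩ | ⟨rfl, hz⟩
    · left
      have h1 : MulAut.conj g * φ = 1 := same _ 1 (by rw [hX, pow_one]; rfl) (by rw [hY]; rfl) (by rw [hz]; rfl)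
      refine ⟨g⁻¹, ?_⟩
      rw [map_inv]
      exact inv_eq_of_mul_eq_one_right h1
    · exact Or.inr ⟨g, same _ δ (hX.trans dX.symm) (hY.trans dy.symm) (hz.trans dz.symm)⟩
  show Nat.card (MulAut G ⧸ Cfsg.Inn G) = 2
  rw [← Subgroup.index_eq_card, Subgroup.index_eq_two_iff]
  refine ⟨δ, fun b => ?_⟩
  by_cases hb : b ∈ Cfsg.Inn G
  · exact Or.inr ⟨hb, fun h => hδ (((Cfsg.Inn G).mul_mem_cancel_left hb).mp h)⟩
  · refine Or.inl ⟨?_, hb⟩
    obtain ⟨g, hg⟩ := (hcase b).resolve_left hb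
    obtain ⟨g', hg'⟩ := (hcase (δ⁻¹)).resolve_left fun h => hδ (by simpa using (Cfsg.Inn G).inv_mem h)
    have e : b * δ = (MulAut.conj g)⁻¹ * (δ * δ) := by rw [← hg]; group
    have e2 : δ * δ = MulAut.conj g' := by
      conv_lhs => arg 1; rw [← hg']
      rw [inv_mul_cancel_right]
    rw [e]
    exact mul_mem (inv_mem ⟨g, rfl⟩) (e2 ▸ ⟨g', rfl⟩)

end Cfsg.Agent.ONOut
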