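import Cfsg.Agent.Lib.ONGroup.Simple

/-!
# Scanning all cosets for the centraliser of a word
-/

set_option autoImplicit false
set_option linter.all false

noncomputable section

namespace Cfsg.Agent.ONOut

open Cfsg.Spor Cfsg.Agent.InvCoset Cfsg.Agent.ONGroup

theorem word_row {w : List ℕ} (hw : inRange 8 w = true) (c : Row) :
    ((act122760 (prodE let8 w)⁻¹ c : Row) : ℕ) = ONTable.table.runW w c := by
  have hr : ∀ y ∈ w, y < ONTable.table.K := inRange_spec (K := 8) hw
  rw [map_inv, map_prodE_permE certified let8 act122760 act_letter w hr, ← Equiv.Perm.smul_def, ← actW_eq]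
  exact actW_permE certified w hr c

theorem step_lab {x : ℕ} (hx : x < 6) (c : Row) :
    ONTable.orbits.lab (act122760 (let8 x)⁻¹ c : Row) = ONTable.orbits.lab c := by
  have hxK : x < ONTable.table.K := Nat.lt_of_lt_of_le hx (by decide)
  rw [map_inv, act_letter x hxK, permE_inv_apply certified hxK]
  have h := ONTable.orbAll c c.2
  simp only [Tab.orbChk, Bool.and_eq_true] at h
  exact sameLab_spec certified let8 act122760 act_letter _ h.1 x hx

/-- The orbit labels are invariant under the stabiliser of the first row. -/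
theorem lab_act {a : ON} (ha : a ∈ hSub) (c : Row) :
    ONTable.orbits.lab (act122760 a c : Row) = ONTable.orbits.lab c := by
  induction ha using Subgroup.closure_induction generalizing c with
  | mem y hy =>
    obtain ⟨x, hx, rfl⟩ := hy
    have h := step_lab hx (act122760 (let8 x) c)
    rw [← Equiv.Perm.mul_apply, ← map_mul, inv_mul_cancel, map_one, Equiv.Perm.one_apply] at h
    exact h.symm
  | one => rw [map_one, Equiv.Perm.one_apply]
  | mul a b _ _ iha ihb => rw [map_mul, Equiv.Perm.mul_apply, iha, ihb]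
  | inv a _ ih =>
    have h := ih (act122760 a⁻¹ c)
    rw [← Equiv.Perm.mul_apply, ← map_mul, mul_inv_cancel, map_one, Equiv.Perm.one_apply] at h
    exact h.symm

/-- The row of `s` seen from `r`, along the tree. -/
def relRow : ℕ → ℕ → ℕ → ℕ
  | 0, _, s => s
  | f + 1, r, s => cond (Nat.beq r 0) s
      (relRow f (ONTable.table.tgt r (ONTable.table.par r)) (ONTable.table.tgt s (ONTable.table.par r)))

theorem relRow_spec : ∀ (f : ℕ) (r s : Row), ONTable.table.depth r ≤ f →
    ∃ P : ON, act122760 P r = row0 ∧ ((act122760 P s : Row) : ℕ) = relRow f r s := by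
  intro f
  induction f with
  | zero =>
    intro r s hd
    rcases eq_or_ne (r : ℕ) 0 with h0 | h0
    · exact ⟨1, by rw [map_one]; exact Fin.ext h0, by rw [map_one]; rfl⟩
    · exact absurd (parFacts certified r.2 h0).2 (by omega)
  | succ f ih =>
    intro r s hd
    rcases eq_or_ne (r : ℕ) 0 with h0 | h0
    · refine ⟨1, by rw [map_one]; exact Fin.ext h0, ?_⟩
      rw [map_one, relRow, h0]
      rfl
    · obtain ⟨hp, hlt⟩ := parFacts certified r.2 h0
      have e : ∀ c : Row, ((act122760 (let8 (ONTable.table.par r))⁻¹ c : Row) : ℕ) =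
          ONTable.table.tgt c (ONTable.table.par r) := fun c => by
        rw [map_inv, act_letter _ hp, permE_inv_apply certified hp]
      obtain ⟨P, h1, h2⟩ := ih (act122760 (let8 (ONTable.table.par r))⁻¹ r)
        (act122760 (let8 (ONTable.table.par r))⁻¹ s) (by rw [e]; omega)
      refine ⟨P * (let8 (ONTable.table.par r))⁻¹, by rw [map_mul, Equiv.Perm.mul_apply]; exact h1, ?_⟩
      rw [map_mul, Equiv.Perm.mul_apply, h2, e, e, relRow]
      rw [show Nat.beq (r : ℕ) 0 = false by
        cases hb : Nat.beq (r : ℕ) 0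
        · rfl
        · exact absurd (Nat.eq_of_beq_eq_true hb) h0]
      rfl

/-- A row which is not the image of the first row under the centraliser. -/
def fails (u : List ℕ) (r : ℕ) : List ℕ → ℕ → Bool
  | [], _ => false
  | l :: ls, cur =>
    cond (Nat.beq (ONTable.orbits.lab (relRow (ONTable.table.depth r) r (ONTable.table.runW u cur))) l)
      (fails u r ls (ONTable.table.runW u cur)) true

def memNat (r : ℕ) : List ℕ → Bool
  | [] => false
  | y :: l => Nat.beq y r || memNat r l

theorem memNat_spec {r : ℕ} : ∀ {l : List ℕ}, memNat r l = true → r ∈ l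
  | [], h => by simp [memNat] at h
  | y :: l, h => by
    simp only [memNat, Bool.or_eq_true] at h
    rcases h with h | h
    · exact (Nat.eq_of_beq_eq_true h) ▸ List.mem_cons_self
    · exact List.mem_cons_of_mem _ (memNat_spec h)

/-- Every row of a range fails or is listed. -/
def scanRows (u ls ok : List ℕ) : ℕ → ℕ → Bool
  | _, 0 => true
  | a, n + 1 => (fails u a ls a || memNat a ok) && scanRows u ls ok (Nat.succ a) n

theorem scanRows_spec {u ls ok : List ℕ} : ∀ n a, scanRows u ls ok a n = true →
    ∀ i, a ≤ i → i < a + n → (fails u i ls i || memNat i ok) = true := by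
  intro n
  induction n with
  | zero => intro a _ i h1 h2; omega
  | succ n ih =>
    intro a h i h1 h2
    simp only [scanRows, Bool.and_eq_true] at h
    rcases Nat.eq_or_lt_of_le h1 with e | e
    · exact e ▸ h.1
    · exact ih (Nat.succ a) h.2 i (by omega) (by omega)

theorem scan_zero (u ls ok : List ℕ) : ∀ i < 0, (fails u i ls i || memNat i ok) = true :=
  fun i hi => absurd hi (by omega)

theorem scan_add {u ls ok : List ℕ} (a n : ℕ) (h : ∀ i < a, (fails u i ls i || memNat i ok) = true)
    (h' : scanRows u ls ok a n = true) : ∀ i < a + n, (fails u i ls i || memNat i ok) = true := fun i hi =>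
  (Nat.lt_or_ge i a).elim (h i) fun ha => scanRows_spec n a h' i ha hi

/-- The labels along the cycle of a word through a row. -/
def cycleLabs (u : List ℕ) : ℕ → ℕ → List ℕ
  | 0, _ => []
  | m + 1, c => ONTable.orbits.lab (ONTable.table.runW u c) :: cycleLabs u m (ONTable.table.runW u c)

theorem fails_false {u : List ℕ} (hu : inRange 8 u = true) {a : ON} (hc : Commute a (prodE let8 u))
    (r : Row) (hr : act122760 a⁻¹ row0 = r) :
    ∀ (m : ℕ) (c d : Row), act122760 a⁻¹ c = d → fails u r (cycleLabs u m c) d = false := by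
  intro m
  induction m with
  | zero => intros; rfl
  | succ m ih =>
    intro c d hcd
    set U := (prodE let8 u)⁻¹ with hU
    have hcU : act122760 a⁻¹ (act122760 U c) = act122760 U d := by
      rw [← hcd, ← Equiv.Perm.mul_apply, ← map_mul, ← Equiv.Perm.mul_apply, ← map_mul, hU, hc.inv_inv.eq]
    have h := ih _ _ hcU
    rw [hU, word_row hu, word_row hu] at h
    obtain ⟨P, hP, hPs⟩ := relRow_spec (ONTable.table.depth r) r (act122760 U d) le_rfl
    have hmem : P * a⁻¹ ∈ hSub := by rw [mem_hSub_iff, map_mul, Equiv.Perm.mul_apply, hr, hP]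
    have hlab := lab_act hmem (act122760 U c)
    rw [map_mul, Equiv.Perm.mul_apply, hcU, hPs, hU, word_row hu, word_row hu] at hlab
    rw [cycleLabs, fails, hlab, Nat.beq_refl]
    exact h

/-- An element commuting with `u` and fixing the first row fixes the whole cycle. -/
theorem fix_cycle {u : ON} {d : ON} (hc : Commute d u) (h0 : act122760 d row0 = row0) (m : ℕ) :
    act122760 d (act122760 (u ^ m) row0) = act122760 (u ^ m) row0 := by
  rw [← Equiv.Perm.mul_apply, ← map_mul, (hc.pow_right m).eq, map_mul, Equiv.Perm.mul_apply, h0]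

def iterRow (u : List ℕ) : ℕ → ℕ → ℕ
  | 0, c => c
  | m + 1, c => iterRow u m (ONTable.table.runW u c)

theorem iterRow_spec {u : List ℕ} (hu : inRange 8 u = true) : ∀ (m : ℕ) (c : Row),
    ((act122760 ((prodE let8 u)⁻¹ ^ m) c : Row) : ℕ) = iterRow u m c := by
  intro m
  induction m with
  | zero => intro c; rw [pow_zero, map_one]; rfl
  | succ m ih => intro c; rw [pow_succ, map_mul, Equiv.Perm.mul_apply, ih, word_row hu]; rfl

/-- What is checked for the centraliser of a word. -/
def centChk (u h : List ℕ) (i j : ℕ) (ok : List ℕ) (ws : List (List ℕ)) : Bool :=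
  inRange 8 u && inRange 8 h && inRange 8 ws.flatten &&
    Nat.beq (ONTable.table.runW h 0) 0 && Nat.beq (ONTable.table.runW h 3) (iterRow u i 0) &&
    Nat.beq (ONTable.table.runW h 113129) (iterRow u j 0) &&
    lbeq ok (ws.map fun w => ONTable.table.runW w 0) &&
    ws.all fun w => fixesThree (u ++ (w ++ invW ONTable.iv (w ++ u)))

theorem orbit_span {e : ON} (he : e ∈ hSub) (h1 : act122760 e row1 = row1) :
    ((act122760 e row2 : Row) : ℕ) ∈ ONTable.spanPts := by
  classical
  by_contra hout
  have hlt : ∀ p ∈ ONTable.spanPts, p < ONTable.table.n := by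
    have h : inRange ONTable.table.n ONTable.spanPts = true := by decide +kernel
    exact inRange_spec h
  let S : Finset Row := Finset.univ.filter fun c => (c : ℕ) ∈ ONTable.spanPts
  have hS : S.card = 672 := by
    rw [← ONTable.span_len, ← List.toFinset_card_of_nodup (distinctL_spec ONTable.span_distinct)]
    refine Finset.card_bij (fun c _ => (c : ℕ)) (fun c hc => ?_) (fun a _ b _ h => Fin.ext h) fun b hb => ?_
    · exact List.mem_toFinset.mpr (Finset.mem_filter.mp hc).2
    · rw [List.mem_toFinset] at hb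
      exact ⟨⟨b, hlt b hb⟩, Finset.mem_filter.mpr ⟨Finset.mem_univ _, hb⟩, rfl⟩
  have hA := orbit_mul_le hSub row1 (labSet (ONTable.orbits.lab row1)) fun s hs =>
    same_lab ((Finset.mem_filter.mp hs).2).symm
  rw [labSet_card, show ONTable.orbits.lab row1 = 2 by decide +kernel, ONTable.count2, base_bound.1] at hA
  have hB := orbit_mul_le (fixIn hSub row1) row2 (insert (act122760 e row2) S) fun s hs => by
    rcases Finset.mem_insert.mp hs with rfl | hs
    · exact ⟨e, mem_fixIn.mpr ⟨he, h1⟩, rfl⟩
    · obtain ⟨i, hi, hrow⟩ := exists_rootOf (Finset.mem_filter.mp hs).2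
      obtain ⟨a, ha, hae⟩ := span_orbit certified let8 act122760 act_letter (fixIn hSub row1) (by decide) fix_four
        ONTable.span_ok row2 (by decide +kernel) i hi
      exact ⟨a, ha, Fin.ext (hae.trans hrow)⟩
  have hn : act122760 e row2 ∉ S := fun hm => hout (Finset.mem_filter.mp hm).2
  rw [Finset.card_insert_of_notMem hn, hS, base_bound.2] at hB
  omega

/-- A listed row which no element of the centraliser reaches. -/
def badChk (u : List ℕ) (i j : ℕ) (p : ℕ × List ℕ × List ℕ) : Bool :=
  inRange 8 p.2.1 && inRange 8 p.2.2 && inRange 8 (invW ONTable.iv p.2.2) && Nat.beq (ONTable.table.runW p.2.1 p.1) 0 &&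
    Nat.beq (ONTable.table.runW p.2.2 0) 0 &&
    Nat.beq (ONTable.table.runW p.2.2 3) (ONTable.table.runW p.2.1 (iterRow u i p.1)) &&
    !memNat (ONTable.table.runW (invW ONTable.iv p.2.2) (ONTable.table.runW p.2.1 (iterRow u j p.1))) ONTable.spanPts

theorem memNat_of_mem {r : ℕ} : ∀ {l : List ℕ}, r ∈ l → memNat r l = true
  | [], h => by simp at h
  | y :: l, h => by
    simp only [memNat, Bool.or_eq_true]
    rcases List.mem_cons.mp h with rfl | h
    · exact Or.inl (Nat.beq_refl r)
    · exact Or.inr (memNat_of_mem h)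

theorem centraliser_cases {u h : List ℕ} {bad : List (ℕ × List ℕ × List ℕ)} {i j m : ℕ} {ok : List ℕ} {ws : List (List ℕ)}
    (hchk : centChk u h i j ok ws = true) (hbad : bad.all (badChk u i j) = true)
    (hscan : ∀ r < 122760, (fails u r (cycleLabs u m 0) r || memNat r (ok ++ bad.map Prod.fst)) = true) {a : ON}
    (hc : Commute a (prodE let8 u)) : ∃ w ∈ ws, a = prodE let8 w := by
  simp only [centChk, Bool.and_eq_true] at hchk
  obtain ⟨⟨⟨⟨⟨⟨⟨hu, hh⟩, hws⟩, h0⟩, h1⟩, h2⟩, hok⟩, hcomm⟩ := hchk
  set r := act122760 a⁻¹ row0 with hr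
  have hf := fails_false hu hc r hr.symm m row0 r hr.symm
  have hs := hscan r r.2
  rw [show ((row0 : Row) : ℕ) = 0 from rfl] at hf
  rw [hf, Bool.false_or] at hs
  have hmem' := memNat_spec hs
  rcases List.mem_append.mp hmem' with hmem | hb
  swap
  · exfalso
    obtain ⟨p, hp, hp1⟩ := List.mem_map.mp hb
    have hb' := List.all_eq_true.mp hbad p hp
    simp only [badChk, Bool.and_eq_true, Bool.not_eq_true'] at hb'
    obtain ⟨⟨⟨⟨⟨⟨hpr, hwr2⟩, hwin⟩, hp0⟩, hw0⟩, hw3⟩, hout⟩ := hb'
    set g := prodE let8 h
    set P := (prodE let8 p.2.1)⁻¹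
    set H := prodE let8 p.2.2 with hH
    have hcyc : ∀ (c : Row) (k : ℕ), ONTable.table.runW h c = iterRow u k 0 →
        ((act122760 (a⁻¹ * g⁻¹) c : Row) : ℕ) = iterRow u k p.1 := by
      intro c k hck
      have e : act122760 g⁻¹ c = act122760 ((prodE let8 u)⁻¹ ^ k) row0 :=
        Fin.ext (((word_row hh c).trans hck).trans (iterRow_spec hu k row0).symm)
      rw [map_mul, Equiv.Perm.mul_apply, e, ← Equiv.Perm.mul_apply, ← map_mul,
        (hc.inv_inv.pow_right k).eq, map_mul, Equiv.Perm.mul_apply, ← hr, iterRow_spec hu, ← hp1]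
    have hH0 : act122760 H⁻¹ row0 = row0 := Fin.ext ((word_row hwr2 row0).trans (Nat.eq_of_beq_eq_true hw0))
    have hback : ∀ (c d : Row), act122760 H⁻¹ c = d → act122760 H d = c := fun c d hcd => by
      rw [← hcd, ← Equiv.Perm.mul_apply, ← map_mul, mul_inv_cancel, map_one, Equiv.Perm.one_apply]
    set e := H * P * (a⁻¹ * g⁻¹) with he'
    have he : e ∈ hSub := by
      rw [mem_hSub_iff, he', map_mul, Equiv.Perm.mul_apply, map_mul, Equiv.Perm.mul_apply]
      refine hback _ _ (hH0.trans (Fin.ext ?_))
      rw [word_row hpr, hcyc row0 0 (Nat.eq_of_beq_eq_true h0)]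
      exact (Nat.eq_of_beq_eq_true hp0).symm
    have he1 : act122760 e row1 = row1 := by
      rw [he', map_mul, Equiv.Perm.mul_apply, map_mul, Equiv.Perm.mul_apply]
      refine hback _ _ (Fin.ext ?_)
      rw [word_row hwr2, word_row hpr, hcyc row1 i (Nat.eq_of_beq_eq_true h1)]
      exact Nat.eq_of_beq_eq_true hw3
    have he2 : ((act122760 e row2 : Row) : ℕ) =
        ONTable.table.runW (invW ONTable.iv p.2.2) (ONTable.table.runW p.2.1 (iterRow u j p.1)) := by
      have e2 : H = (prodE let8 (invW ONTable.iv p.2.2))⁻¹ := by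
        rw [prodE_invW let8_paired _ (inRange_spec hwr2), inv_inv]
      rw [he', map_mul, Equiv.Perm.mul_apply, map_mul, Equiv.Perm.mul_apply, e2, word_row hwin, word_row hpr,
        hcyc row2 j (Nat.eq_of_beq_eq_true h2)]
    rw [memNat_of_mem (he2 ▸ orbit_span he he1)] at hout
    exact Bool.noConfusion hout
  rw [lbeq_iff hok] at hmem
  obtain ⟨w, hw, hwr⟩ := List.mem_map.mp hmem
  refine ⟨w, hw, ?_⟩
  have hwin : inRange 8 w = true := by
    have hall := inRange_spec hws
    clear * - hall hw
    have h : ∀ y ∈ w, y < 8 := fun y hy => hall y (List.mem_flatten.mpr ⟨w, hw, hy⟩)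
    clear hw hall
    induction w with
    | nil => rfl
    | cons y w ih =>
      simp only [inRange, Bool.and_eq_true]
      exact ⟨by simpa [Nat.blt] using h y List.mem_cons_self, ih fun z hz => h z (List.mem_cons_of_mem _ hz)⟩
  have hwr' : act122760 (prodE let8 w)⁻¹ row0 = r := Fin.ext ((word_row hwin row0).trans hwr)
  have hwu : Commute (prodE let8 w) (prodE let8 u) := by
    have h := word_one (List.all_eq_true.mp hcomm w hw)
    rw [prodE_append, prodE_append, ← mul_assoc] at h
    have hlt : ∀ y ∈ w ++ u, y < 8 := fun y hy => (List.mem_append.mp hy).elim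
      (inRange_spec hwin y) (inRange_spec hu y)
    rw [prodE_invW let8_paired _ hlt, mul_inv_eq_one, prodE_append] at h
    exact h.symm
  set d := a * (prodE let8 w)⁻¹ with hd
  have hd0 : act122760 d row0 = row0 := by
    rw [hd, map_mul, Equiv.Perm.mul_apply, hwr', hr, ← Equiv.Perm.mul_apply, ← map_mul, mul_inv_cancel,
      map_one, Equiv.Perm.one_apply]
  have hdu : Commute d (prodE let8 u)⁻¹ := (hc.mul_left hwu.inv_left).inv_right
  set g := prodE let8 h with hg
  have hfix : ∀ (c : Row) (k : ℕ), ONTable.table.runW h c = iterRow u k 0 →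
      act122760 (g * d * g⁻¹) c = c := by
    intro c k hck
    have e : act122760 g⁻¹ c = act122760 ((prodE let8 u)⁻¹ ^ k) row0 :=
      Fin.ext (((word_row hh c).trans hck).trans (iterRow_spec hu k row0).symm)
    rw [map_mul, map_mul, Equiv.Perm.mul_apply, Equiv.Perm.mul_apply, e, fix_cycle hdu hd0, ← e,
      ← Equiv.Perm.mul_apply, ← map_mul, mul_inv_cancel, map_one, Equiv.Perm.one_apply]
  have h1' := one_of_three (hfix row0 0 (Nat.eq_of_beq_eq_true h0))
    (hfix row1 i (Nat.eq_of_beq_eq_true h1)) (hfix row2 j (Nat.eq_of_beq_eq_true h2))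
  rw [conj_eq_one_iff, hd, mul_inv_eq_one] at h1'
  exact h1'

end Cfsg.Agent.ONOut
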