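import Cfsg.Agent.Lib.ONOut.Words

/-!
# A part of the scan
-/

set_option autoImplicit false
set_option Elab.async false
set_option maxHeartbeats 0
set_option maxRecDepth 100000

noncomputable section

namespace Cfsg.Agent.ONOut

open Cfsg.Spor Cfsg.Agent.InvCoset Cfsg.Agent.ONGroup

theorem scanX0 : scanRows xW labsX allX 0 256 = true := by decide +kernel

theorem scanX256 : scanRows xW labsX allX 256 256 = true := by decide +kernel

theorem scanX512 : scanRows xW labsX allX 512 256 = true := by decide +kernel

theorem scanX768 : scanRows xW labsX allX 768 256 = true := by decide +kernel

theorem scanX1024 : scanRows xW labsX allX 1024 256 = true := by decide +kernel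

theorem scanX1280 : scanRows xW labsX allX 1280 256 = true := by decide +kernel

theorem scanX1536 : scanRows xW labsX allX 1536 256 = true := by decide +kernel

theorem scanX1792 : scanRows xW labsX allX 1792 256 = true := by decide +kernel

theorem scanX2048 : scanRows xW labsX allX 2048 256 = true := by decide +kernel

theorem scanX2304 : scanRows xW labsX allX 2304 256 = true := by decide +kernel

theorem scanX2560 : scanRows xW labsX allX 2560 256 = true := by decide +kernel

theorem scanX2816 : scanRows xW labsX allX 2816 256 = true := by decide +kernel

theorem scanX3072 : scanRows xW labsX allX 3072 256 = true := by decide +kernel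

theorem scanX3328 : scanRows xW labsX allX 3328 256 = true := by decide +kernel

theorem scanX3584 : scanRows xW labsX allX 3584 256 = true := by decide +kernel

theorem scanX3840 : scanRows xW labsX allX 3840 256 = true := by decide +kernel

theorem scanX4096 : scanRows xW labsX allX 4096 256 = true := by decide +kernel

theorem scanX4352 : scanRows xW labsX allX 4352 256 = true := by decide +kernel

theorem scanX4608 : scanRows xW labsX allX 4608 256 = true := by decide +kernel

theorem scanX4864 : scanRows xW labsX allX 4864 256 = true := by decide +kernel

theorem scanX5120 : scanRows xW labsX allX 5120 256 = true := by decide +kernel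

theorem scanX5376 : scanRows xW labsX allX 5376 256 = true := by decide +kernel

theorem scanX5632 : scanRows xW labsX allX 5632 256 = true := by decide +kernel

theorem scanX5888 : scanRows xW labsX allX 5888 256 = true := by decide +kernel

theorem scanX6144 : scanRows xW labsX allX 6144 256 = true := by decide +kernel

theorem scanX6400 : scanRows xW labsX allX 6400 256 = true := by decide +kernel

theorem scanX6656 : scanRows xW labsX allX 6656 256 = true := by decide +kernel

theorem scanX6912 : scanRows xW labsX allX 6912 256 = true := by decide +kernel

theorem scanX7168 : scanRows xW labsX allX 7168 256 = true := by decide +kernel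

theorem scanX7424 : scanRows xW labsX allX 7424 256 = true := by decide +kernel

theorem scanX7680 : scanRows xW labsX allX 7680 256 = true := by decide +kernel

theorem scanX7936 : scanRows xW labsX allX 7936 256 = true := by decide +kernel

theorem scanX8192 : scanRows xW labsX allX 8192 256 = true := by decide +kernel

theorem scanX8448 : scanRows xW labsX allX 8448 256 = true := by decide +kernel

theorem scanX8704 : scanRows xW labsX allX 8704 256 = true := by decide +kernel

theorem scanX8960 : scanRows xW labsX allX 8960 256 = true := by decide +kernel

theorem scanX9216 : scanRows xW labsX allX 9216 256 = true := by decide +kernel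

theorem scanX9472 : scanRows xW labsX allX 9472 256 = true := by decide +kernel

theorem scanX9728 : scanRows xW labsX allX 9728 256 = true := by decide +kernel

theorem scanX9984 : scanRows xW labsX allX 9984 256 = true := by decide +kernel

theorem scanX10240 : scanRows xW labsX allX 10240 256 = true := by decide +kernel

theorem scanX10496 : scanRows xW labsX allX 10496 256 = true := by decide +kernel

theorem scanX10752 : scanRows xW labsX allX 10752 256 = true := by decide +kernel

theorem scanX11008 : scanRows xW labsX allX 11008 256 = true := by decide +kernel

theorem scanX11264 : scanRows xW labsX allX 11264 256 = true := by decide +kernel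

theorem scanX11520 : scanRows xW labsX allX 11520 256 = true := by decide +kernel

theorem scanX11776 : scanRows xW labsX allX 11776 256 = true := by decide +kernel

theorem scanX12032 : scanRows xW labsX allX 12032 256 = true := by decide +kernel

theorem scanX12288 : scanRows xW labsX allX 12288 256 = true := by decide +kernel

theorem scanX12544 : scanRows xW labsX allX 12544 256 = true := by decide +kernel

theorem scanX12800 : scanRows xW labsX allX 12800 256 = true := by decide +kernel

theorem scanX13056 : scanRows xW labsX allX 13056 256 = true := by decide +kernel

theorem scanX13312 : scanRows xW labsX allX 13312 256 = true := by decide +kernel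

theorem scanX13568 : scanRows xW labsX allX 13568 256 = true := by decide +kernel

theorem scanX13824 : scanRows xW labsX allX 13824 256 = true := by decide +kernel

theorem scanX14080 : scanRows xW labsX allX 14080 256 = true := by decide +kernel

theorem scanX14336 : scanRows xW labsX allX 14336 256 = true := by decide +kernel

theorem scanX14592 : scanRows xW labsX allX 14592 256 = true := by decide +kernel

theorem scanX14848 : scanRows xW labsX allX 14848 256 = true := by decide +kernel

theorem scanX15104 : scanRows xW labsX allX 15104 256 = true := by decide +kernel

theorem scanX15360 : scanRows xW labsX allX 15360 256 = true := by decide +kernel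

theorem scanX15616 : scanRows xW labsX allX 15616 256 = true := by decide +kernel

theorem scanX15872 : scanRows xW labsX allX 15872 256 = true := by decide +kernel

theorem scanX16128 : scanRows xW labsX allX 16128 256 = true := by decide +kernel

theorem scanX16384 : scanRows xW labsX allX 16384 256 = true := by decide +kernel

theorem scanX16640 : scanRows xW labsX allX 16640 256 = true := by decide +kernel

theorem scanX16896 : scanRows xW labsX allX 16896 256 = true := by decide +kernel

theorem scanX17152 : scanRows xW labsX allX 17152 256 = true := by decide +kernel

theorem scanX17408 : scanRows xW labsX allX 17408 256 = true := by decide +kernel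

theorem scanX17664 : scanRows xW labsX allX 17664 256 = true := by decide +kernel

theorem scanX17920 : scanRows xW labsX allX 17920 256 = true := by decide +kernel

theorem scanX18176 : scanRows xW labsX allX 18176 256 = true := by decide +kernel

theorem scanX18432 : scanRows xW labsX allX 18432 256 = true := by decide +kernel

theorem scanX18688 : scanRows xW labsX allX 18688 256 = true := by decide +kernel

theorem scanX18944 : scanRows xW labsX allX 18944 256 = true := by decide +kernel

theorem scanX19200 : scanRows xW labsX allX 19200 256 = true := by decide +kernel

theorem scanX19456 : scanRows xW labsX allX 19456 256 = true := by decide +kernel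

theorem scanX19712 : scanRows xW labsX allX 19712 256 = true := by decide +kernel

theorem scanX19968 : scanRows xW labsX allX 19968 256 = true := by decide +kernel

theorem scanX20224 : scanRows xW labsX allX 20224 256 = true := by decide +kernel

theorem scanX20480 : scanRows xW labsX allX 20480 256 = true := by decide +kernel

theorem scanX20736 : scanRows xW labsX allX 20736 256 = true := by decide +kernel

theorem scanX20992 : scanRows xW labsX allX 20992 256 = true := by decide +kernel

theorem scanX21248 : scanRows xW labsX allX 21248 256 = true := by decide +kernel

theorem scanX21504 : scanRows xW labsX allX 21504 256 = true := by decide +kernel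

theorem scanX21760 : scanRows xW labsX allX 21760 256 = true := by decide +kernel

theorem scanX22016 : scanRows xW labsX allX 22016 256 = true := by decide +kernel

theorem scanX22272 : scanRows xW labsX allX 22272 256 = true := by decide +kernel

theorem scanX22528 : scanRows xW labsX allX 22528 256 = true := by decide +kernel

theorem scanX22784 : scanRows xW labsX allX 22784 256 = true := by decide +kernel

theorem scanX23040 : scanRows xW labsX allX 23040 256 = true := by decide +kernel

theorem scanX23296 : scanRows xW labsX allX 23296 256 = true := by decide +kernel

theorem scanX23552 : scanRows xW labsX allX 23552 256 = true := by decide +kernel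

theorem scanX23808 : scanRows xW labsX allX 23808 256 = true := by decide +kernel

theorem scanX24064 : scanRows xW labsX allX 24064 256 = true := by decide +kernel

theorem scanX24320 : scanRows xW labsX allX 24320 256 = true := by decide +kernel

theorem scanX24576 : scanRows xW labsX allX 24576 256 = true := by decide +kernel

theorem scanX24832 : scanRows xW labsX allX 24832 256 = true := by decide +kernel

theorem scanX25088 : scanRows xW labsX allX 25088 256 = true := by decide +kernel

theorem scanX25344 : scanRows xW labsX allX 25344 256 = true := by decide +kernel

theorem scanX25600 : scanRows xW labsX allX 25600 256 = true := by decide +kernel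

theorem scanX25856 : scanRows xW labsX allX 25856 256 = true := by decide +kernel

theorem scanX26112 : scanRows xW labsX allX 26112 256 = true := by decide +kernel

theorem scanX26368 : scanRows xW labsX allX 26368 256 = true := by decide +kernel

theorem scanX26624 : scanRows xW labsX allX 26624 256 = true := by decide +kernel

theorem scanX26880 : scanRows xW labsX allX 26880 256 = true := by decide +kernel

theorem scanX27136 : scanRows xW labsX allX 27136 256 = true := by decide +kernel

theorem scanX27392 : scanRows xW labsX allX 27392 256 = true := by decide +kernel

theorem scanX27648 : scanRows xW labsX allX 27648 256 = true := by decide +kernel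

theorem scanX27904 : scanRows xW labsX allX 27904 256 = true := by decide +kernel

theorem scanX28160 : scanRows xW labsX allX 28160 256 = true := by decide +kernel

theorem scanX28416 : scanRows xW labsX allX 28416 256 = true := by decide +kernel

theorem scanX28672 : scanRows xW labsX allX 28672 256 = true := by decide +kernel

theorem scanX28928 : scanRows xW labsX allX 28928 256 = true := by decide +kernel

theorem scanX29184 : scanRows xW labsX allX 29184 256 = true := by decide +kernel

theorem scanX29440 : scanRows xW labsX allX 29440 256 = true := by decide +kernel

theorem scanX29696 : scanRows xW labsX allX 29696 256 = true := by decide +kernel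

theorem scanX29952 : scanRows xW labsX allX 29952 256 = true := by decide +kernel

theorem scanX30208 : scanRows xW labsX allX 30208 256 = true := by decide +kernel

theorem scanX30464 : scanRows xW labsX allX 30464 256 = true := by decide +kernel

theorem scanX30720 : scanRows xW labsX allX 30720 256 = true := by decide +kernel

theorem scanX30976 : scanRows xW labsX allX 30976 256 = true := by decide +kernel

theorem scanX31232 : scanRows xW labsX allX 31232 256 = true := by decide +kernel

theorem scanX31488 : scanRows xW labsX allX 31488 256 = true := by decide +kernel

theorem scanX31744 : scanRows xW labsX allX 31744 256 = true := by decide +kernel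

theorem scanX32000 : scanRows xW labsX allX 32000 256 = true := by decide +kernel

theorem scanX32256 : scanRows xW labsX allX 32256 256 = true := by decide +kernel

theorem scanX32512 : scanRows xW labsX allX 32512 256 = true := by decide +kernel

theorem scanX32768 : scanRows xW labsX allX 32768 256 = true := by decide +kernel

theorem scanX33024 : scanRows xW labsX allX 33024 256 = true := by decide +kernel

theorem scanX33280 : scanRows xW labsX allX 33280 256 = true := by decide +kernel

theorem scanX33536 : scanRows xW labsX allX 33536 256 = true := by decide +kernel

theorem scanX33792 : scanRows xW labsX allX 33792 256 = true := by decide +kernel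

theorem scanX34048 : scanRows xW labsX allX 34048 256 = true := by decide +kernel

theorem scanX34304 : scanRows xW labsX allX 34304 256 = true := by decide +kernel

theorem scanX34560 : scanRows xW labsX allX 34560 256 = true := by decide +kernel

theorem scanX34816 : scanRows xW labsX allX 34816 256 = true := by decide +kernel

theorem scanX35072 : scanRows xW labsX allX 35072 256 = true := by decide +kernel

theorem scanX35328 : scanRows xW labsX allX 35328 256 = true := by decide +kernel

theorem scanX35584 : scanRows xW labsX allX 35584 256 = true := by decide +kernel

theorem scanX35840 : scanRows xW labsX allX 35840 256 = true := by decide +kernel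

theorem scanX36096 : scanRows xW labsX allX 36096 256 = true := by decide +kernel

theorem scanX36352 : scanRows xW labsX allX 36352 256 = true := by decide +kernel

theorem scanX36608 : scanRows xW labsX allX 36608 256 = true := by decide +kernel

theorem scanX36864 : scanRows xW labsX allX 36864 256 = true := by decide +kernel

theorem scanX37120 : scanRows xW labsX allX 37120 256 = true := by decide +kernel

theorem scanX37376 : scanRows xW labsX allX 37376 256 = true := by decide +kernel

theorem scanX37632 : scanRows xW labsX allX 37632 256 = true := by decide +kernel

theorem scanX37888 : scanRows xW labsX allX 37888 256 = true := by decide +kernel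

theorem scanX38144 : scanRows xW labsX allX 38144 256 = true := by decide +kernel

theorem scanX38400 : scanRows xW labsX allX 38400 256 = true := by decide +kernel

theorem scanX38656 : scanRows xW labsX allX 38656 256 = true := by decide +kernel

theorem scanX38912 : scanRows xW labsX allX 38912 256 = true := by decide +kernel

theorem scanX39168 : scanRows xW labsX allX 39168 256 = true := by decide +kernel

theorem scanX39424 : scanRows xW labsX allX 39424 256 = true := by decide +kernel

theorem scanX39680 : scanRows xW labsX allX 39680 256 = true := by decide +kernel

theorem scanX39936 : scanRows xW labsX allX 39936 256 = true := by decide +kernel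

theorem scanX40192 : scanRows xW labsX allX 40192 256 = true := by decide +kernel

theorem scanX40448 : scanRows xW labsX allX 40448 256 = true := by decide +kernel

theorem scanX40704 : scanRows xW labsX allX 40704 256 = true := by decide +kernel

theorem scanXUpTo0 (h : ∀ i < 0, (fails xW i labsX i || memNat i allX) = true) :
    ∀ i < 40960, (fails xW i labsX i || memNat i allX) = true :=
  scan_add 40704 256 (scan_add 40448 256 (scan_add 40192 256 (scan_add 39936 256 (scan_add 39680 256 (scan_add 39424 256 (scan_add 39168 256 (scan_add 38912 256 (scan_add 38656 256 (scan_add 38400 256 (scan_add 38144 256 (scan_add 37888 256 (scan_add 37632 256 (scan_add 37376 256 (scan_add 37120 256 (scan_add 36864 256 (scan_add 36608 256 (scan_add 36352 256 (scan_add 36096 256 (scan_add 35840 256 (scan_add 35584 256 (scan_add 35328 256 (scan_add 35072 256 (scan_add 34816 256 (scan_add 34560 256 (scan_add 34304 256 (scan_add 34048 256 (scan_add 33792 256 (scan_add 33536 256 (scan_add 33280 256 (scan_add 33024 256 (scan_add 32768 256 (scan_add 32512 256 (scan_add 32256 256 (scan_add 32000 256 (scan_add 31744 256 (scan_add 31488 256 (scan_add 31232 256 (scan_add 30976 256 (scan_add 30720 256 (scan_add 30464 256 (scan_add 30208 256 (scan_add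 29952 256 (scan_add 29696 256 (scan_add 29440 256 (scan_add 29184 256 (scan_add 28928 256 (scan_add 28672 256 (scan_add 28416 256 (scan_add 28160 256 (scan_add 27904 256 (scan_add 27648 256 (scan_add 27392 256 (scan_add 27136 256 (scan_add 26880 256 (scan_add 26624 256 (scan_add 26368 256 (scan_add 26112 256 (scan_add 25856 256 (scan_add 25600 256 (scan_add 25344 256 (scan_add 25088 256 (scan_add 24832 256 (scan_add 24576 256 (scan_add 24320 256 (scan_add 24064 256 (scan_add 23808 256 (scan_add 23552 256 (scan_add 23296 256 (scan_add 23040 256 (scan_add 22784 256 (scan_add 22528 256 (scan_add 22272 256 (scan_add 22016 256 (scan_add 21760 256 (scan_add 21504 256 (scan_add 21248 256 (scan_add 20992 256 (scan_add 20736 256 (scan_add 20480 256 (scan_add 20224 256 (scan_add 19968 256 (scan_add 19712 256 (scan_add 19456 256 (scan_add 19200 256 (scan_add 18944 256 (scan_add 18688 256 (scan_add 18432 256 (scan_add 18176 256 (scan_add 17920 256 (scan_add 17664 256 (scan_add 17408 256 (scan_add 17152 256 (scan_add 16896 256 (scan_add 16640 256 (scan_add 16384 256 (scan_add 16128 256 (scan_add 15872 256 (scan_add 15616 256 (scan_add 15360 256 (scan_add 15104 256 (scan_add 14848 256 (scan_add 14592 256 (scan_add 14336 256 (scan_add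 14080 256 (scan_add 13824 256 (scan_add 13568 256 (scan_add 13312 256 (scan_add 13056 256 (scan_add 12800 256 (scan_add 12544 256 (scan_add 12288 256 (scan_add 12032 256 (scan_add 11776 256 (scan_add 11520 256 (scan_add 11264 256 (scan_add 11008 256 (scan_add 10752 256 (scan_add 10496 256 (scan_add 10240 256 (scan_add 9984 256 (scan_add 9728 256 (scan_add 9472 256 (scan_add 9216 256 (scan_add 8960 256 (scan_add 8704 256 (scan_add 8448 256 (scan_add 8192 256 (scan_add 7936 256 (scan_add 7680 256 (scan_add 7424 256 (scan_add 7168 256 (scan_add 6912 256 (scan_add 6656 256 (scan_add 6400 256 (scan_add 6144 256 (scan_add 5888 256 (scan_add 5632 256 (scan_add 5376 256 (scan_add 5120 256 (scan_add 4864 256 (scan_add 4608 256 (scan_add 4352 256 (scan_add 4096 256 (scan_add 3840 256 (scan_add 3584 256 (scan_add 3328 256 (scan_add 3072 256 (scan_add 2816 256 (scan_add 2560 256 (scan_add 2304 256 (scan_add 2048 256 (scan_add 1792 256 (scan_add 1536 256 (scan_add 1280 256 (scan_add 1024 256 (scan_add 768 256 (scan_add 512 256 (scan_add 256 256 (scan_add 0 256 (h) scanX0) scanX256) scanX512) scanX768) scanX1024) scanX1280) scanX1536) scanX1792) scanX2048) scanX2304) scanX2560) scanX2816) scanX3072) scanX3328) scanX3584) scanX3840) scanX4096)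 scanX4352) scanX4608) scanX4864) scanX5120) scanX5376) scanX5632) scanX5888) scanX6144) scanX6400) scanX6656) scanX6912) scanX7168) scanX7424) scanX7680) scanX7936) scanX8192) scanX8448) scanX8704) scanX8960) scanX9216) scanX9472) scanX9728) scanX9984) scanX10240) scanX10496) scanX10752) scanX11008) scanX11264) scanX11520) scanX11776) scanX12032) scanX12288) scanX12544) scanX12800) scanX13056) scanX13312) scanX13568) scanX13824) scanX14080) scanX14336) scanX14592) scanX14848) scanX15104) scanX15360) scanX15616) scanX15872) scanX16128) scanX16384) scanX16640) scanX16896) scanX17152) scanX17408) scanX17664) scanX17920) scanX18176) scanX18432) scanX18688) scanX18944) scanX19200) scanX19456) scanX19712) scanX19968) scanX20224) scanX20480) scanX20736) scanX20992) scanX21248) scanX21504) scanX21760) scanX22016) scanX22272) scanX22528) scanX22784) scanX23040) scanX23296) scanX23552) scanX23808) scanX24064) scanX24320) scanX24576) scanX24832) scanX25088) scanX25344) scanX25600) scanX25856) scanX26112) scanX26368) scanX26624) scanX26880) scanX27136) scanX27392) scanX27648) scanX27904) scanX28160) scanX28416) scanX28672) scanX28928) scanX29184) scanX29440) scanX29696) scanX29952) scanX30208) scanX30464) scanX30720) scanX30976) scanX31232)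 scanX31488) scanX31744) scanX32000) scanX32256) scanX32512) scanX32768) scanX33024) scanX33280) scanX33536) scanX33792) scanX34048) scanX34304) scanX34560) scanX34816) scanX35072) scanX35328) scanX35584) scanX35840) scanX36096) scanX36352) scanX36608) scanX36864) scanX37120) scanX37376) scanX37632) scanX37888) scanX38144) scanX38400) scanX38656) scanX38912) scanX39168) scanX39424) scanX39680) scanX39936) scanX40192) scanX40448) scanX40704

end Cfsg.Agent.ONOut
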