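import Cfsg.Agent.Lib.ONOut.Scan

/-!
# Words for the automorphisms of the presented O'Nan group
-/

set_option autoImplicit false
set_option Elab.async false
set_option maxHeartbeats 0
set_option maxRecDepth 100000

noncomputable section

namespace Cfsg.Agent.ONOut

open Cfsg.Spor Cfsg.Agent.InvCoset Cfsg.Agent.ONGroup

def xW : List ℕ := [7, 4, 3, 7, 2, 1, 7, 4, 0]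

def yW : List ℕ := [5, 3, 4, 2, 3, 1, 2, 3, 0, 1, 2, 3, 4, 5, 3, 4, 2, 3, 0, 1, 2, 3, 4, 3, 1, 2, 3, 1, 2, 3, 1, 0, 1, 0, 2, 1, 0, 3, 2, 1, 0, 3, 2, 4, 3, 2, 1, 0, 3, 2, 1, 4, 3, 2, 1, 3, 2, 1, 4, 3, 2, 1, 3, 2, 5, 4, 3, 2, 3, 6, 1, 7, 2, 1, 6, 4, 5]

def zW : List ℕ := [3, 2, 3, 1, 2, 3, 4, 3, 2, 3, 1, 2, 3, 4, 3, 2, 3, 1, 2, 3, 4, 3, 1, 2, 3, 1, 2, 3, 4, 3, 1, 2, 3, 1, 2, 3, 1, 2, 1, 0, 1, 3, 2, 3, 2, 1, 0, 3, 4, 3, 2, 1, 3, 5, 4, 3, 2, 6, 1, 2, 3, 4, 7, 2, 3, 2, 1, 7, 2, 3, 4, 3]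

def z1W : List ℕ := [3, 2, 3, 1, 2, 3, 4, 3, 2, 3, 1, 2, 3, 4, 3, 2, 3, 1, 2, 3, 4, 3, 1, 2, 3, 1, 2, 3, 4, 3, 1, 2, 3, 1, 2, 3, 1, 2, 1, 0, 3, 2, 1, 3, 2, 3, 4, 3, 2, 1, 3, 2, 4, 3, 2, 1, 3, 2, 3, 2, 6, 1, 0, 2, 1, 4, 3, 6, 2, 4, 7, 3, 2]

def hXW : List ℕ := [1, 3, 2, 1, 3, 2, 1, 3, 4, 3, 2, 1, 0, 3, 2, 4, 3, 5, 4, 3, 2, 1, 0, 3, 2, 1, 3, 2, 4, 3, 5]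

def hYW : List ℕ := [1, 2, 1, 3, 2, 1, 3, 2, 1, 3, 4, 3, 2, 1, 3, 2, 1, 3, 4, 3, 2, 1, 3, 2, 3, 4, 3, 2, 1, 3, 2, 3, 4, 3, 2, 1, 3, 2, 3]

def relA : List ℕ := [0, 5, 0, 5, 0, 5, 0, 5, 0, 5, 0, 5, 0, 5, 0, 5]

def relB : List ℕ := [0, 4, 2, 2, 2, 0, 4, 2, 2, 2, 0, 4, 2, 2, 2, 0, 4, 2, 2, 2, 0, 4, 2, 2, 2, 0, 4, 2, 2, 2, 0, 4, 2, 2, 2, 0, 4, 2, 2, 2, 0, 4, 2, 2, 2, 0, 4, 2, 2, 2, 0, 4, 2, 2, 2, 0, 4, 2, 2, 2, 0, 4, 2, 2, 2, 0, 4, 2, 2, 2, 0, 4, 2, 2, 2]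

def labsX : List ℕ := [3, 2, 1, 1, 1, 1, 3, 1, 1, 1, 3, 1, 1, 3, 1, 1, 3, 1, 1, 3, 1, 1, 1, 3, 1, 1, 1, 1, 2, 3]

def labsY : List ℕ := [2, 3, 1, 1, 1, 1, 1, 1, 1, 1, 1, 1, 3, 2]

def okX : List ℕ := [0, 3334, 4533, 54636, 72286, 34773, 37338, 82773, 26354, 95107, 108970, 31395, 26695, 9086, 96243, 78971, 118537, 56177, 64504, 77649, 102583, 74154, 103203, 53257, 72854, 67227, 62348, 30291, 1261, 585, 564]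

def okY : List ℕ := [0, 1125, 5304, 5376, 17147, 18278, 18691, 22810, 24376, 32514, 37343, 40534, 44321, 45404, 46917, 47696, 49830, 50779, 52479, 54354, 56243, 57927, 59100, 62113, 63226, 63753, 66997, 68891, 70339, 70871, 70879, 76048, 79016, 79206, 85739, 88040, 88153, 89178, 97940, 104424, 106975, 112901, 118009, 119061, 120149]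

def allX : List ℕ := [0, 3334, 4533, 54636, 72286, 34773, 37338, 82773, 26354, 95107, 108970, 31395, 26695, 9086, 96243, 78971, 118537, 56177, 64504, 77649, 102583, 74154, 103203, 53257, 72854, 67227, 62348, 30291, 1261, 585, 564]

def allY : List ℕ := [0, 1125, 5304, 5376, 17147, 18278, 18691, 22810, 24376, 32514, 37343, 40534, 44321, 45404, 46917, 47696, 49830, 50779, 52479, 54354, 56243, 57927, 59100, 62113, 63226, 63753, 66997, 68891, 70339, 70871, 70879, 76048, 79016, 79206, 85739, 88040, 88153, 89178, 97940, 104424, 106975, 112901, 118009, 119061, 120149, 30, 1112, 12972, 13779, 15323, 15721, 15740, 20787, 22917, 27104, 27468, 29825,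 30751, 34143, 35325, 37367, 45627, 46048, 46687, 46745, 48434, 51049, 51532, 52189, 52220, 53935, 55963, 60190, 61865, 68712, 74676, 74885, 85507, 87995, 88907, 89285, 89428, 90571, 101988, 104272, 105780, 108020, 112869, 113961, 115491]

def cyW : List (List ℕ) := [[],
  [3, 2, 3, 1, 2, 3, 4, 3, 2, 3, 1, 2, 3, 4, 3, 2, 3, 1, 2, 3, 4, 3, 1, 2, 3, 1, 2, 3, 4, 3, 1, 2, 3, 1, 2, 3, 1, 2, 0, 3, 2, 3, 2, 3, 2, 3, 4, 3, 2, 1, 3, 2, 1, 3, 4, 3, 2, 1, 3, 2, 4, 3, 2, 1, 3, 2, 4, 3, 2, 3, 4, 6, 1, 7, 2, 1, 6, 4, 5],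
  [3, 2, 3, 1, 2, 3, 4, 3, 2, 3, 1, 2, 3, 4, 3, 2, 3, 1, 2, 3, 4, 3, 1, 2, 3, 1, 2, 3, 4, 3, 1, 2, 3, 1, 2, 3, 1, 2, 1, 0, 1, 0, 3, 2, 3, 2, 4, 3, 2, 1, 0, 3, 2, 4, 3, 5, 4, 3, 2, 1, 3, 2, 3, 2, 1, 4, 3, 2, 1, 0, 3, 2, 6, 2, 4, 3, 2, 1, 7, 3],
  [3, 2, 3, 1, 2, 3, 4, 3, 2, 3, 1, 2, 3, 4, 3, 2, 3, 1, 2, 3, 4, 3, 1, 2, 3, 1, 2, 3, 4, 3, 1, 2, 3, 1, 2, 3, 1, 2, 1, 0, 2, 1, 0, 3, 2, 3, 2, 3, 4, 3, 2, 1, 3, 2, 1, 4, 3, 2, 1, 0, 5, 4, 3, 2, 1, 3, 2, 3, 2, 4, 3, 2, 1, 3, 2, 4, 3, 5, 4, 6, 1, 7, 2, 1, 6, 4, 3, 2, 3, 4],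
  [3, 2, 3, 1, 2, 3, 4, 3, 2, 3, 1, 2, 3, 4, 3, 2, 3, 1, 2, 3, 4, 3, 1, 2, 3, 1, 2, 3, 4, 3, 1, 2, 3, 1, 2, 3, 1, 2, 0, 2, 3, 2, 1, 0, 3, 2, 4, 3, 2, 1, 3, 2, 1, 4, 3, 2, 1, 3, 2, 4, 3, 2, 1, 0, 3, 2, 1, 4, 6, 1, 2, 3, 7, 2, 4, 3, 2, 1, 3],
  [3, 2, 3, 1, 2, 3, 4, 3, 2, 3, 1, 2, 3, 4, 3, 2, 3, 1, 2, 3, 4, 3, 1, 2, 3, 1, 2, 3, 4, 3, 1, 2, 3, 1, 2, 3, 1, 2, 0, 3, 2, 1, 3, 2, 1, 3, 4, 3, 2, 1, 0, 3, 5, 4, 3, 2, 1, 3, 2, 1, 4, 3, 2, 3, 2, 1, 4, 6, 1, 2, 3, 2, 4, 7, 3, 2, 1, 6, 2],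
  [3, 2, 3, 1, 2, 3, 4, 3, 2, 3, 1, 2, 3, 4, 3, 2, 3, 1, 2, 3, 4, 3, 1, 2, 3, 1, 2, 3, 4, 3, 1, 2, 3, 1, 2, 3, 1, 2, 1, 0, 3, 2, 1, 3, 2, 1, 3, 2, 1, 4, 3, 2, 1, 3, 2, 1, 3, 4, 3, 2, 1, 0, 3, 2, 1, 4, 3, 2, 3, 5, 4, 6, 1, 2, 3, 2, 4, 3, 2, 6, 1, 7, 2, 1],
  [3, 2, 3, 1, 2, 3, 4, 3, 2, 3, 1, 2, 3, 4, 3, 2, 3, 1, 2, 3, 4, 3, 1, 2, 3, 1, 2, 3, 4, 3, 1, 2, 3, 1, 2, 3, 1, 2, 0, 3, 2, 3, 2, 3, 2, 4, 3, 2, 1, 0, 3, 2, 1, 4, 3, 2, 1, 3, 2, 1, 4, 3, 2, 1, 0, 3, 5, 4, 3, 2, 1, 3, 6, 1, 2, 3, 2, 1, 6, 2, 4, 3, 7, 4],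
  [3, 2, 3, 1, 2, 3, 4, 3, 2, 3, 1, 2, 3, 4, 3, 2, 3, 1, 2, 3, 4, 3, 1, 2, 3, 1, 2, 3, 4, 3, 1, 2, 3, 1, 2, 3, 1, 2, 1, 0, 2, 3, 2, 3, 4, 3, 2, 1, 0, 3, 5, 4, 3, 2, 1, 0, 3, 2, 1, 4, 3, 2, 3, 5, 6, 1, 2, 1, 3, 4, 3, 2, 3, 4, 7],
  [3, 2, 3, 1, 2, 3, 4, 3, 2, 3, 1, 2, 3, 4, 3, 2, 3, 1, 2, 3, 4, 3, 1, 2, 3, 1, 2, 3, 4, 3, 1, 2, 3, 1, 2, 3, 1, 2, 1, 0, 1, 2, 3, 2, 3, 2, 3, 2, 4, 3, 2, 1, 3, 2, 3, 2, 4, 3, 2, 1, 3, 2, 3, 2, 1, 4, 6, 1, 0, 3, 2, 3, 4, 3, 2, 1, 3, 2, 1, 3],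
  [3, 2, 3, 1, 2, 3, 4, 3, 2, 3, 1, 2, 3, 4, 3, 2, 3, 1, 2, 3, 4, 3, 1, 2, 3, 1, 2, 3, 4, 3, 1, 2, 3, 1, 2, 3, 1, 2, 3, 2, 3, 2, 1, 3, 2, 4, 3, 2, 1, 3, 2, 4, 3, 2, 5, 4, 3, 2, 1, 3, 2, 3, 2, 1, 0, 6, 1, 0, 4, 3, 2, 7, 3, 4, 7, 1],
  [3, 2, 3, 1, 2, 3, 4, 3, 2, 3, 1, 2, 3, 4, 3, 2, 3, 1, 2, 3, 4, 3, 1, 2, 3, 1, 2, 3, 4, 3, 1, 2, 3, 1, 2, 3, 1, 2, 1, 0, 3, 2, 3, 2, 1, 0, 3, 2, 3, 4, 3, 2, 1, 3, 2, 3, 4, 3, 2, 1, 3, 2, 3, 4, 5, 4, 3, 2, 6, 4, 6, 3, 2, 1, 4, 3, 2, 7, 1, 3, 6, 2, 3],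
  [3, 2, 3, 1, 2, 3, 4, 3, 2, 3, 1, 2, 3, 4, 3, 2, 3, 1, 2, 3, 4, 3, 1, 2, 3, 1, 2, 3, 4, 3, 1, 2, 3, 1, 2, 3, 1, 2, 1, 0, 3, 2, 1, 3, 2, 3, 4, 3, 2, 1, 3, 2, 3, 4, 3, 2, 1, 0, 3, 2, 3, 4, 3, 2, 1, 3, 6, 1, 2, 3, 2, 1, 0, 3, 4, 3, 2, 7, 1, 0, 3],
  [3, 2, 3, 1, 2, 3, 4, 3, 2, 3, 1, 2, 3, 4, 3, 2, 3, 1, 2, 3, 4, 3, 1, 2, 3, 1, 2, 3, 4, 3, 1, 2, 3, 1, 2, 3, 1, 2, 3, 2, 3, 2, 1, 3, 2, 4, 3, 2, 1, 0, 3, 5, 4, 3, 2, 1, 3, 2, 4, 3, 2, 1, 0, 3, 2, 3, 6, 1, 2, 3, 2, 1, 4, 6, 3, 2, 4, 3, 7, 1],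
  [3, 2, 3, 1, 2, 3, 4, 3, 2, 3, 1, 2, 3, 4, 3, 2, 3, 1, 2, 3, 4, 3, 1, 2, 3, 1, 2, 3, 4, 3, 1, 2, 3, 1, 2, 3, 1, 2, 1, 0, 3, 2, 1, 3, 2, 3, 4, 3, 2, 1, 3, 2, 4, 3, 2, 1, 3, 2, 3, 2, 6, 1, 0, 2, 1, 4, 3, 6, 2, 4, 7, 3, 2],
  [3, 2, 3, 1, 2, 3, 4, 3, 2, 3, 1, 2, 3, 4, 3, 2, 3, 1, 2, 3, 4, 3, 1, 2, 3, 1, 2, 3, 4, 3, 1, 2, 3, 1, 2, 3, 1, 2, 1, 0, 1, 0, 2, 3, 2, 1, 3, 2, 3, 2, 3, 4, 3, 2, 1, 3, 2, 3, 4, 3, 2, 1, 3, 5, 4, 3, 2, 3, 2, 1, 4, 6, 4, 3, 2, 1, 0, 3, 2, 1, 6, 2, 4, 3, 5],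
  [3, 2, 3, 1, 2, 3, 4, 3, 2, 3, 1, 2, 3, 4, 3, 2, 3, 1, 2, 3, 4, 3, 1, 2, 3, 1, 2, 3, 4, 3, 1, 2, 3, 1, 2, 3, 1, 2, 1, 0, 1, 0, 2, 1, 0, 3, 2, 1, 0, 3, 2, 4, 3, 2, 1, 3, 2, 1, 3, 4, 3, 2, 1, 0, 3, 2, 1, 3, 4, 3, 2, 1, 3, 4, 5, 6, 4, 3, 2, 1, 7, 2, 3, 2, 4, 3, 5, 4],
  [3, 2, 3, 1, 2, 3, 4, 3, 2, 3, 1, 2, 3, 4, 3, 2, 3, 1, 2, 3, 4, 3, 1, 2, 3, 1, 2, 3, 4, 3, 1, 2, 3, 1, 2, 3, 1, 3, 2, 1, 3, 2, 3, 2, 1, 0, 4, 3, 2, 1, 0, 3, 5, 4, 3, 2, 1, 3, 2, 1, 4, 3, 2, 1, 0, 3, 2, 1, 4, 3, 2, 5, 6, 4, 3, 2, 1, 3, 6, 2, 1, 0, 3, 4, 7],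
  [3, 2, 3, 1, 2, 3, 4, 3, 2, 3, 1, 2, 3, 4, 3, 2, 3, 1, 2, 3, 4, 3, 1, 2, 3, 1, 2, 3, 4, 3, 1, 2, 3, 1, 2, 3, 1, 3, 2, 3, 2, 4, 3, 2, 1, 0, 3, 5, 4, 3, 2, 1, 3, 2, 1, 4, 3, 2, 1, 0, 3, 2, 1, 4, 3, 2, 3, 6, 1, 0, 2, 4, 3, 2, 6, 1, 2, 4, 3, 7, 2],
  [3, 2, 3, 1, 2, 3, 4, 3, 2, 3, 1, 2, 3, 4, 3, 2, 3, 1, 2, 3, 4, 3, 1, 2, 3, 1, 2, 3, 4, 3, 1, 2, 3, 1, 2, 3, 1, 2, 0, 3, 2, 1, 3, 2, 1, 0, 4, 3, 2, 1, 0, 3, 2, 1, 4, 3, 2, 1, 3, 2, 4, 3, 2, 1, 3, 2, 3, 4, 3, 2, 1, 0, 6, 4, 3, 2, 6, 1, 3, 2, 7, 3, 4, 7, 1],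
  [3, 2, 3, 1, 2, 3, 4, 3, 2, 3, 1, 2, 3, 4, 3, 2, 3, 1, 2, 3, 4, 3, 1, 2, 3, 1, 2, 3, 4, 3, 1, 2, 3, 1, 2, 3, 1, 2, 1, 0, 1, 3, 2, 3, 2, 1, 0, 3, 4, 3, 2, 1, 3, 5, 4, 3, 2, 6, 1, 2, 3, 4, 7, 2, 3, 2, 1, 7, 2, 3, 4, 3],
  [3, 2, 3, 1, 2, 3, 4, 3, 2, 3, 1, 2, 3, 4, 3, 2, 3, 1, 2, 3, 4, 3, 1, 2, 3, 1, 2, 3, 4, 3, 1, 2, 3, 1, 2, 3, 1, 2, 0, 3, 2, 1, 3, 4, 3, 2, 1, 0, 5, 4, 3, 2, 1, 3, 2, 4, 3, 2, 1, 3, 2, 4, 3, 2, 5, 6, 1, 2, 1, 4, 3, 2, 1, 3, 5, 4, 7, 4, 3],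
  [3, 2, 3, 1, 2, 3, 4, 3, 2, 3, 1, 2, 3, 4, 3, 2, 3, 1, 2, 3, 4, 3, 1, 2, 3, 1, 2, 3, 4, 3, 1, 2, 3, 1, 2, 3, 1, 2, 1, 0, 3, 2, 1, 3, 2, 1, 3, 4, 3, 2, 1, 3, 2, 1, 4, 3, 2, 1, 5, 4, 3, 2, 3, 2, 4, 3, 2, 1, 3, 6, 1, 2, 3, 2, 4, 6, 1, 0, 3, 2, 1, 4, 3, 7],
  [3, 2, 3, 1, 2, 3, 4, 3, 2, 3, 1, 2, 3, 4, 3, 2, 3, 1, 2, 3, 4, 3, 1, 2, 3, 1, 2, 3, 4, 3, 1, 2, 3, 1, 2, 3, 1, 2, 1, 0, 1, 0, 3, 2, 1, 0, 3, 2, 1, 0, 4, 3, 2, 1, 3, 2, 3, 2, 4, 3, 2, 1, 0, 3, 2, 1, 4, 3, 2, 3, 2, 4, 6, 1, 2, 1, 3, 2, 1, 7, 4, 3, 2, 7, 1, 6, 3],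
  [3, 2, 3, 1, 2, 3, 4, 3, 2, 3, 1, 2, 3, 4, 3, 2, 3, 1, 2, 3, 4, 3, 1, 2, 3, 1, 2, 3, 4, 3, 1, 2, 3, 1, 2, 3, 1, 2, 1, 0, 1, 0, 3, 2, 1, 3, 2, 1, 4, 3, 2, 1, 0, 3, 5, 4, 3, 2, 1, 3, 2, 1, 4, 3, 2, 1, 0, 3, 2, 1, 6, 1, 4, 7, 3, 4, 6, 2, 1, 3, 4, 6, 2, 3],
  [3, 2, 3, 1, 2, 3, 4, 3, 2, 3, 1, 2, 3, 4, 3, 2, 3, 1, 2, 3, 4, 3, 1, 2, 3, 1, 2, 3, 4, 3, 1, 2, 3, 1, 2, 3, 1, 2, 1, 0, 3, 2, 1, 0, 3, 2, 3, 4, 3, 2, 1, 3, 2, 1, 4, 3, 2, 1, 3, 2, 3, 4, 3, 2, 1, 3, 2, 6, 1, 2, 3, 2, 4, 6, 3, 2, 6, 1, 2, 4, 6, 1],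
  [3, 2, 3, 1, 2, 3, 4, 3, 2, 3, 1, 2, 3, 4, 3, 2, 3, 1, 2, 3, 4, 3, 1, 2, 3, 1, 2, 3, 4, 3, 1, 2, 3, 1, 2, 3, 1, 3, 2, 1, 0, 3, 2, 1, 3, 2, 4, 3, 2, 1, 0, 3, 2, 3, 4, 3, 2, 1, 3, 2, 3, 5, 4, 3, 2, 6, 1, 0, 2, 4, 3, 2, 6, 1, 4, 6, 3, 2],
  [3, 2, 3, 1, 2, 3, 4, 3, 2, 3, 1, 2, 3, 4, 3, 2, 3, 1, 2, 3, 4, 3, 1, 2, 3, 1, 2, 3, 4, 3, 1, 2, 3, 1, 2, 3, 1, 2, 1, 0, 1, 0, 2, 1, 3, 2, 1, 3, 2, 1, 4, 3, 2, 1, 3, 2, 3, 4, 3, 2, 1, 0, 3, 2, 6, 4, 3, 2, 7, 1, 3, 6, 2, 1, 3, 4, 3, 6],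
  [3, 2, 3, 1, 2, 3, 4, 3, 2, 3, 1, 2, 3, 4, 3, 2, 3, 1, 2, 3, 4, 3, 1, 2, 3, 1, 2, 3, 4, 3, 1, 2, 3, 1, 2, 3, 1, 2, 3, 2, 3, 2, 3, 2, 1, 4, 3, 2, 1, 3, 5, 4, 3, 2, 1, 3, 2, 1, 4, 3, 2, 1, 3, 5, 4, 3, 2, 1, 6, 1, 2, 3, 2, 7, 1, 7, 4, 3, 2, 1, 7],
  [3, 2, 3, 1, 2, 3, 4, 3, 2, 3, 1, 2, 3, 4, 3, 2, 3, 1, 2, 3, 4, 3, 1, 2, 3, 1, 2, 3, 4, 3, 1, 2, 3, 1, 2, 3, 1, 2, 3, 2, 1, 3, 2, 3, 4, 3, 2, 1, 0, 3, 5, 4, 3, 2, 1, 3, 2, 1, 3, 4, 3, 2, 1, 3, 2, 3, 4, 5, 6, 4, 3, 7, 2, 1, 0, 3, 2, 1, 4, 7, 3, 4],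
  [3, 2, 3, 1, 2, 3, 4, 3, 2, 3, 1, 2, 3, 4, 3, 2, 3, 1, 2, 3, 4, 3, 1, 2, 3, 1, 2, 3, 4, 3, 1, 2, 3, 1, 2, 3, 1, 2, 1, 0, 1, 3, 2, 1, 0, 3, 2, 3, 4, 3, 2, 1, 3, 2, 3, 2, 4, 3, 2, 1, 3, 2, 3, 4, 3, 2, 1, 3, 2, 3, 2, 4, 3, 6, 1, 6, 2, 1, 3, 6, 2, 4, 3, 7, 2, 1, 0],
  [3, 2, 3, 1, 2, 3, 4, 3, 2, 3, 1, 2, 3, 4, 3, 2, 3, 1, 2, 3, 4, 3, 1, 2, 3, 1, 2, 3, 4, 3, 1, 2, 3, 1, 2, 3, 1, 2, 1, 0, 1, 2, 1, 0, 3, 2, 1, 4, 3, 2, 1, 3, 2, 3, 4, 3, 2, 1, 5, 4, 6, 4, 3, 2, 1, 3, 4, 7, 2, 3, 4, 7, 3],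
  [3, 2, 3, 1, 2, 3, 4, 3, 2, 3, 1, 2, 3, 4, 3, 2, 3, 1, 2, 3, 4, 3, 1, 2, 3, 1, 2, 3, 4, 3, 1, 2, 3, 1, 2, 3, 1, 2, 1, 0, 1, 3, 2, 1, 0, 3, 2, 4, 3, 2, 1, 0, 3, 2, 3, 4, 3, 2, 1, 3, 2, 5, 4, 3, 2, 1, 0, 6, 1, 2, 1, 3, 2, 1, 4, 3, 2, 7, 1, 7, 3, 4],
  [3, 2, 3, 1, 2, 3, 4, 3, 2, 3, 1, 2, 3, 4, 3, 2, 3, 1, 2, 3, 4, 3, 1, 2, 3, 1, 2, 3, 4, 3, 1, 2, 3, 1, 2, 3, 1, 3, 2, 1, 0, 3, 2, 3, 2, 4, 3, 2, 1, 0, 5, 4, 3, 2, 1, 3, 2, 4, 6, 1, 7, 2, 1, 6, 3, 4, 3, 2, 1, 3, 6, 4, 3],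
  [3, 2, 3, 1, 2, 3, 4, 3, 2, 3, 1, 2, 3, 4, 3, 2, 3, 1, 2, 3, 4, 3, 1, 2, 3, 1, 2, 3, 4, 3, 0, 4, 3, 2, 1, 0, 3, 5, 4, 3, 2, 3, 2, 1, 0, 4, 3, 2, 1, 3, 2, 3, 4, 3, 2, 1, 5, 4, 3, 2, 6, 1, 2, 3, 4, 7, 3, 2, 1, 3, 2, 6, 4],
  [3, 2, 3, 1, 2, 3, 4, 3, 2, 3, 1, 2, 3, 4, 3, 2, 3, 1, 2, 3, 4, 3, 1, 2, 3, 1, 2, 3, 4, 3, 1, 2, 3, 1, 2, 3, 1, 2, 1, 2, 3, 2, 3, 2, 3, 2, 3, 4, 3, 2, 1, 0, 3, 2, 1, 0, 4, 3, 2, 1, 3, 2, 4, 3, 2, 1, 5, 4, 3, 2, 1, 6, 1, 2, 3, 2, 3, 4, 3, 2, 1, 6, 2, 3, 6, 1],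
  [3, 2, 3, 1, 2, 3, 4, 3, 2, 3, 1, 2, 3, 4, 3, 2, 3, 1, 2, 3, 4, 3, 1, 2, 3, 1, 2, 3, 4, 3, 1, 2, 3, 1, 2, 3, 1, 2, 1, 3, 2, 3, 2, 1, 3, 2, 3, 4, 3, 2, 1, 3, 2, 1, 3, 4, 3, 2, 1, 3, 2, 3, 4, 3, 2, 1, 3, 2, 4, 3, 2, 6, 1, 0, 2, 3, 2, 1, 4, 3, 7, 2, 4, 7, 3],
  [3, 2, 3, 1, 2, 3, 4, 3, 2, 3, 1, 2, 3, 4, 3, 2, 3, 1, 2, 3, 4, 3, 1, 2, 3, 1, 2, 3, 4, 3, 1, 2, 3, 1, 2, 3, 1, 2, 0, 2, 3, 2, 1, 3, 2, 3, 2, 4, 3, 2, 1, 3, 2, 1, 4, 3, 2, 1, 3, 2, 4, 3, 2, 1, 3, 2, 3, 6, 1, 2, 3, 2, 7, 1, 7, 2, 4, 3, 2, 3, 4, 6],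
  [3, 2, 3, 1, 2, 3, 4, 3, 2, 3, 1, 2, 3, 4, 3, 2, 3, 1, 2, 3, 4, 3, 1, 2, 3, 1, 2, 3, 4, 3, 1, 2, 3, 1, 2, 3, 1, 2, 0, 3, 2, 3, 2, 3, 2, 1, 4, 3, 2, 1, 3, 2, 1, 4, 3, 2, 5, 4, 3, 2, 1, 6, 1, 6, 2, 3, 2, 4, 7, 1, 3, 4, 6, 3, 2, 1],
  [3, 2, 3, 1, 2, 3, 4, 3, 2, 3, 1, 2, 3, 4, 3, 2, 3, 1, 2, 3, 4, 3, 1, 2, 3, 1, 2, 3, 4, 3, 1, 2, 3, 1, 2, 3, 1, 2, 0, 3, 2, 1, 3, 2, 4, 3, 2, 1, 3, 2, 1, 3, 4, 3, 2, 1, 3, 2, 3, 4, 3, 2, 1, 3, 2, 1, 3, 6, 1, 6, 2, 1, 3, 4, 6, 2, 3, 6, 2, 4, 7, 3, 2],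
  [3, 2, 3, 1, 2, 3, 4, 3, 2, 3, 1, 2, 3, 4, 3, 2, 3, 1, 2, 3, 4, 3, 1, 2, 3, 1, 2, 3, 4, 3, 1, 2, 3, 1, 2, 3, 1, 2, 1, 0, 2, 1, 0, 3, 2, 1, 0, 3, 2, 1, 4, 3, 2, 1, 0, 3, 2, 1, 0, 4, 3, 2, 1, 3, 2, 3, 4, 3, 2, 1, 5, 4, 6, 1, 0, 2, 4, 3, 2, 7, 1, 4, 3, 2, 1, 7, 4],
  [3, 2, 3, 1, 2, 3, 4, 3, 2, 3, 1, 2, 3, 4, 3, 2, 3, 1, 2, 3, 4, 3, 1, 2, 3, 1, 2, 3, 4, 3, 1, 2, 3, 1, 2, 3, 1, 2, 1, 0, 1, 3, 2, 3, 2, 1, 3, 2, 3, 2, 4, 3, 2, 1, 0, 3, 2, 4, 3, 5, 4, 3, 2, 1, 3, 2, 1, 3, 2, 1, 0, 4, 3, 5, 6, 1, 2, 3, 4, 3, 2, 1, 3, 5, 4, 6, 2, 3, 2],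
  [3, 2, 3, 1, 2, 3, 4, 3, 2, 3, 1, 2, 3, 4, 3, 2, 3, 1, 2, 3, 4, 3, 1, 2, 3, 1, 2, 3, 4, 3, 1, 2, 3, 1, 2, 3, 1, 2, 1, 0, 3, 2, 3, 2, 3, 2, 1, 4, 3, 2, 1, 0, 3, 5, 4, 3, 2, 1, 3, 2, 1, 4, 3, 2, 1, 3, 5, 4, 3, 2, 1, 0, 3, 6, 4, 6, 3, 2, 1, 3, 2, 4, 6, 3, 2, 7, 1, 6],
  [3, 2, 3, 1, 2, 3, 4, 3, 2, 3, 1, 2, 3, 4, 3, 2, 3, 1, 2, 3, 4, 3, 1, 2, 3, 1, 2, 3, 4, 3, 1, 2, 3, 1, 2, 3, 1, 2, 1, 0, 2, 1, 3, 2, 1, 3, 2, 1, 3, 2, 4, 3, 2, 1, 0, 3, 2, 1, 4, 3, 2, 1, 3, 2, 4, 3, 2, 1, 3, 2, 3, 4, 3, 2, 3, 2, 6, 1, 0, 4, 3, 2, 1, 3, 2, 1, 3, 2, 1, 4, 5],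
  [3, 2, 3, 1, 2, 3, 4, 3, 2, 3, 1, 2, 3, 4, 3, 2, 3, 1, 2, 3, 4, 3, 1, 2, 3, 1, 2, 3, 4, 3, 1, 2, 3, 1, 2, 3, 1, 2, 1, 0, 1, 0, 2, 1, 0, 3, 4, 3, 2, 1, 0, 3, 2, 3, 4, 3, 2, 3, 2, 1, 0, 6, 1, 4, 3, 2, 1, 3, 6, 2, 4, 6, 3, 2, 6, 3]]

def exprs : List (List ℕ) := [[1, 1, 5, 0, 5, 0, 0, 4, 1, 1, 4, 1, 1, 1, 1, 1, 1, 1, 1, 1, 5, 1, 1, 4, 1, 1, 1, 5],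
  [1, 1, 1, 5, 0, 0, 2, 1, 1, 5, 1, 1, 4, 0, 5, 1, 2, 1, 1, 1, 5, 1, 1, 1, 4, 1],
  [1, 1, 1, 4, 0, 5, 3, 0, 4, 0, 0, 0, 0, 0, 0, 0, 0, 5, 0, 0, 4, 1, 1, 5, 1, 3, 0, 0],
  [0, 0, 4, 0, 0, 0, 4, 1, 2, 0, 0, 5, 0, 0, 0, 5, 0, 0, 0, 5, 0, 0, 0, 0, 5, 0, 4, 0],
  [0, 0, 5, 0, 5, 0, 0, 0, 0, 0, 5, 0, 0, 4, 0, 5, 1, 1, 1, 4, 0, 5, 1, 4, 1, 1, 1, 1],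
  [1, 4, 0, 0, 0, 0, 0, 5, 1, 1, 1, 1, 5, 1, 5, 0, 4, 0, 0, 0, 0, 0, 0, 0, 4, 0, 5, 0, 0, 0, 0, 0, 0, 0, 0, 0, 0, 0, 0],
  [3, 1, 5, 1, 1, 1, 5, 1, 1, 4, 0, 0, 0, 0, 5, 1, 1, 4, 1, 1, 5, 0, 0, 0, 5, 0, 0, 0]]

def badX : List (ℕ × List ℕ × List ℕ) := []

def badY : List (ℕ × List ℕ × List ℕ) := [(30, [4, 2, 7], [4, 3, 2, 1, 0, 3, 2, 4, 3, 5, 4, 3, 2, 1, 0, 3, 2, 1, 3, 2, 4, 3, 2, 5, 4, 3, 2, 1, 3, 2, 3]),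
  (1112, [6, 4, 1, 2, 0, 1, 7], [4, 3, 2, 1, 3, 5, 4, 3, 2, 3, 2, 1, 0, 4, 3, 2, 1, 3, 2, 3, 4, 3, 2, 3]),
  (12972, [4, 3, 2, 3, 1, 2, 7, 4, 0, 1, 7], [4, 3, 2, 1, 3, 2, 1, 4, 3, 2, 1, 0, 5, 4, 3, 2, 1, 3, 2, 3, 2, 4, 3, 2, 1, 3, 2, 4, 3, 5, 4]),
  (13779, [6, 3, 1, 2, 3, 7, 4, 2, 3, 2, 1, 7], [4, 3, 2, 1, 3, 5, 4, 3, 2, 1, 0, 3, 2, 4]),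
  (15323, [2, 3, 0, 1, 6, 2, 3, 4, 2, 0, 1, 7], [4, 3, 2, 1, 0, 5, 4, 3, 2, 1, 3, 2, 4, 3, 2, 1, 3, 2, 4, 3, 2, 1, 3]),
  (15721, [2, 1, 6, 3, 2, 3, 4, 1, 2, 3, 1, 2, 1, 7], [4, 3, 2, 1, 3, 2, 3, 4, 3, 2, 3, 2, 1, 4, 3]),
  (15740, [3, 6, 2, 3, 4, 1, 2, 6, 3, 2, 7, 1, 7], [4, 3, 2, 1, 0, 5, 4, 3, 2, 1, 3, 2, 3, 4, 3, 2, 1, 3, 2, 1, 3, 4, 3, 2, 5, 4]),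
  (20787, [7, 3, 2, 3, 4, 7, 1, 2, 3, 2, 1, 7], [4, 3, 2, 1, 0, 3, 2, 1, 3, 4, 3, 2, 1, 3]),
  (22917, [2, 3, 4, 1, 6, 1, 2, 3, 1, 2, 1, 7], [4, 3, 2, 1, 3, 2, 1, 4, 3, 2, 1, 0, 5, 4, 3, 2, 1, 0, 3, 2, 3, 4, 3, 2, 3, 2, 1]),
  (27104, [7, 3, 1, 2, 1, 6, 3, 4, 2, 3, 1, 2, 7, 1, 7], [4, 3, 2, 1, 3, 2, 3, 2, 1, 4, 3, 2, 1, 5, 4, 3, 2, 1]),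
  (27468, [7, 3, 4, 1, 2, 7, 3, 2, 7, 4, 1, 7], [4, 3, 2, 1, 0, 3, 5, 4, 3, 2, 1, 3, 2, 1, 4, 3, 2, 1, 3, 5, 4, 3, 2, 3, 2, 1, 0, 4, 3, 2, 1]),
  (29825, [2, 3, 4, 1, 6, 2, 3, 4, 2, 3, 2, 1, 7], [4, 3, 2, 1, 5, 4, 3, 2, 1, 3, 2, 4, 3, 2, 1, 3, 2, 3, 4, 3, 2, 5]),
  (30751, [2, 7, 3, 1, 2, 3, 7, 4, 1, 2, 0, 1, 7], [4, 3, 2, 1, 3, 5, 4, 3, 2, 1, 0, 3, 2, 1, 4, 5]),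
  (34143, [3, 2, 3, 6, 1, 6, 4, 2, 3, 7, 4, 1, 7], [4, 3, 2, 1, 3, 5, 4, 3, 2, 1, 3, 2, 1, 4, 3, 2, 3, 4]),
  (35325, [3, 2, 7, 4, 1, 2, 7, 3, 4, 2, 3, 2, 1, 7], [4, 3, 2, 1, 0, 3, 4, 5, 4, 3, 2, 1, 3, 2, 3, 4, 3, 2, 1, 3, 2, 4, 3, 2, 1, 5, 4, 3, 2]),
  (37367, [4, 6, 4, 3, 7, 2, 3, 1, 2, 3, 4, 7], [4, 3, 2, 1, 0, 3, 5, 4, 3, 2, 3, 2, 1, 4, 3, 2, 3, 2, 1, 4, 5]),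
  (45627, [6, 1, 2, 6, 3, 4, 6, 3, 1, 2, 3, 4, 0, 1, 7], [4, 3, 2, 1, 3, 2, 4, 3, 2, 1, 3]),
  (46048, [1, 6, 4, 3, 2, 3, 1, 7, 2, 3, 4, 1, 7], [4, 3, 2, 1, 3, 2, 4, 3, 2, 1, 3, 2, 3, 2, 4, 3, 2, 1, 0]),
  (46687, [4, 7, 4, 5, 3, 4, 2, 3, 1, 2, 3, 6, 4, 7], [4, 3, 2, 1, 3, 2, 3, 4, 3, 2, 1, 0, 3, 2, 4, 3, 5, 4, 3, 2, 1, 0, 3]),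
  (46745, [7, 4, 1, 2, 3, 2, 7, 1, 2, 3, 4, 7], [4, 3, 2, 1, 0, 3, 5, 4, 3, 2, 3, 2, 1, 4, 3]),
  (48434, [1, 2, 3, 2, 3, 4, 6, 1, 6, 2, 3, 2, 1, 7], [4, 3, 2, 1, 0, 3, 5, 4, 3, 2, 1, 3, 2, 1, 3, 4, 3, 2, 1, 3, 2, 3, 4, 3, 2, 3, 5]),
  (51049, [4, 1, 6, 3, 0, 1, 2, 3, 4, 3, 2, 1, 7], [4, 3, 2, 1, 3, 2, 1, 4, 3, 2, 1, 0, 5, 4, 3, 2, 1, 3, 2, 3, 2, 4, 3, 2, 1, 3, 2]),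
  (51532, [4, 3, 2, 7, 1, 2, 3, 4, 2, 3, 7, 2, 7, 1, 7], [4, 3, 2, 1, 0, 3, 2, 1, 3, 4, 3, 2, 1, 3, 2, 4, 3, 2]),
  (52189, [4, 2, 6, 4, 3, 2, 6, 1, 2, 3, 4, 7], [4, 3, 2, 1, 3, 2, 4, 3, 2, 1, 3, 2, 3, 2, 4, 3, 2, 1, 0, 5]),
  (52220, [1, 2, 7, 3, 7, 4, 1, 6, 2, 3, 2, 1, 7], [4, 3, 2, 1, 3, 2, 1, 3, 4, 3, 2, 1, 0, 3, 2, 3, 4, 3, 2, 1, 3, 2, 3, 4]),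
  (53935, [6, 4, 7, 3, 2, 7, 4, 1, 7, 3, 2, 3, 4, 7], [4, 3, 2, 1, 3, 2, 1, 4, 3, 2, 1, 3, 2, 3, 4, 3, 2, 1, 0, 3]),
  (55963, [7, 2, 3, 4, 0, 1, 2, 7, 3, 1, 6, 2, 3, 4, 7], [4, 3, 2, 1, 0, 3, 2, 1, 3, 4, 3, 2, 1, 3, 2, 3, 4, 3, 2, 1, 0]),
  (60190, [3, 2, 7, 4, 3, 1, 2, 6, 4, 3, 2, 3, 1, 7], [4, 3, 2, 1, 0, 3, 2, 1, 4, 3, 2, 1, 3, 2, 1, 0, 4, 3, 2, 1, 5, 4]),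
  (61865, [3, 2, 3, 4, 1, 2, 3, 1, 7, 1, 2, 3, 4, 7], [4, 3, 2, 1, 3, 2, 1, 4, 3, 2, 1, 3, 2, 3, 4, 3, 2, 3]),
  (68712, [3, 7, 4, 7, 3, 1, 6, 1, 2, 3, 6, 4, 2, 1, 7], [4, 3, 2, 1, 0, 3, 5, 4, 3, 2, 1, 3, 2, 1, 4, 3, 2, 1, 3, 2, 1, 3, 4, 5]),
  (74676, [3, 1, 7, 2, 3, 4, 3, 2, 3, 1, 2, 7, 1, 7], [4, 3, 2, 1, 0, 3, 2, 1, 0, 4, 3, 2, 1, 5, 4, 3, 2, 1, 3, 2, 4]),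
  (74885, [5, 4, 2, 3, 1, 2, 7, 4, 3, 2, 3, 1, 7], [4, 3, 2, 1, 3, 2, 3, 4, 3, 2, 1, 3, 2, 1, 3, 4, 3, 2, 1, 3, 2, 3, 4, 3]),
  (85507, [2, 3, 4, 1, 2, 3, 0, 1, 2, 7, 3, 4, 7], [4, 3, 2, 1, 0, 3, 2, 1, 4, 3, 2, 3, 2, 1, 4, 3, 2, 5, 4, 3]),
  (87995, [6, 1, 6, 4, 3, 2, 3, 4, 2, 3, 1, 2, 1, 7], [4, 3, 2, 1, 0, 3, 2, 4, 3, 5, 4, 3, 2, 1, 0, 3, 2, 3, 4]),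
  (88907, [3, 2, 3, 1, 7, 1, 2, 3, 4, 2, 3, 2, 0, 1, 7], [4, 3, 2, 1, 0, 3, 2, 5, 4, 3, 2, 1, 3, 2, 3, 4, 3, 2, 1, 3, 2, 4, 3, 2, 3]),
  (89285, [3, 6, 3, 4, 3, 2, 6, 4, 3, 1, 2, 3, 4, 7], [4, 3, 2, 1, 0, 5, 4, 3, 2, 1, 3, 2, 3, 4, 3, 2, 1, 0, 3, 5, 4, 3, 2, 3, 2, 1]),
  (89428, [0, 1, 6, 4, 1, 2, 3, 7, 4, 1, 2, 3, 2, 1, 7], [4, 3, 2, 1, 3, 2, 3, 4, 3, 2, 1, 3, 2, 3, 5, 4, 3, 2, 1, 3, 2, 3, 2, 1]),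
  (90571, [3, 2, 7, 3, 7, 4, 7, 3, 1, 2, 3, 4, 1, 7], [4, 3, 2, 1, 3, 2, 3, 4, 3, 2, 1, 0, 3, 2, 3, 4, 3, 2, 3, 2, 1, 0]),
  (101988, [3, 4, 2, 7, 3, 4, 7, 1, 2, 3, 1, 2, 1, 7], [4, 3, 2, 1, 3, 4, 5, 4, 3, 2, 1, 3, 2, 4, 3, 2, 1, 3]),
  (104272, [2, 7, 3, 1, 2, 3, 6, 4, 0, 1, 2, 3, 2, 7, 1, 7], [4, 3, 2, 1, 3, 2, 1, 4, 3, 2, 1, 0, 5, 4, 3, 2, 1, 0, 3, 2, 4, 5]),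
  (105780, [3, 2, 3, 4, 6, 1, 2, 1, 7, 3, 1, 2, 3, 4, 7], [4, 3, 2, 1, 0, 3, 5, 4, 3, 2, 1, 3, 2, 3, 4, 3, 2, 1, 0, 3, 5, 4, 3]),
  (108020, [7, 3, 4, 2, 3, 2, 3, 4, 7, 3, 1, 2, 3, 7, 4, 7], [4, 3, 2, 1, 0, 5, 4, 3, 2, 1, 3, 2, 4, 3, 2, 1, 5, 4, 3, 2]),
  (112869, [4, 3, 6, 4, 3, 2, 7, 3, 1, 2, 3, 4, 2, 7], [4, 3, 2, 1, 0, 3, 5, 4, 3, 2, 1, 3, 2, 1, 3, 4, 3, 2, 1, 3, 2, 3, 4, 3, 2]),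
  (113961, [2, 7, 1, 7, 4, 3, 2, 3, 4, 3, 2, 1, 7], [4, 3, 2, 1, 5, 4, 3, 2, 1, 3, 2, 4, 3, 2, 1]),
  (115491, [2, 6, 3, 4, 2, 3, 1, 2, 3, 7, 4, 7], [4, 3, 2, 1, 0, 3, 5, 4, 3, 2, 1, 3, 2, 1, 4, 3, 2, 1, 3, 2, 4, 3, 2, 5, 4, 3, 2, 3])]

end Cfsg.Agent.ONOut
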